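import Cfsg.Agent.Helper19.Poinc.ChevCount
import Cfsg.Agent.Helper18.WeylHomData

set_option autoImplicit false
set_option maxRecDepth 100000

/-! Root-table certificates along the parabolic chains (generated). -/

namespace Cfsg.Agent.Helper19.Poinc

open Cfsg Cfsg.Lie Cfsg.Agent.Helper19.Cox Cfsg.Agent.Helper18

def alphasG2 : List ℕ := [7, 6]
def subG2 : List ℕ := [0, 144]
theorem chainOK_G2 : chainOK reflTabsG2 2 12 6 subG2 alphasG2 0 G2.levels = true := by decide +kernel
theorem halpha_G2 : ∀ i < chevG2.rank, alphasG2.getD i 0 = chevG2.simple i := by decide +kernel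

theorem finite_G2 : Finite (CoxeterMatrix.G₂).Group := Nat.finite_of_card_ne_zero (by rw [G2.card_eq]; decide)

/-- the certificates for type G2 -/
noncomputable def certG2 : Cert chevG2 where
  M := (CoxeterMatrix.G₂)
  Mx := G2.Mx
  hMx := G2.hMx
  tabs := reflTabsG2
  ht := tabsOK_G2
  hbr := braidOK_G2
  hI := rootI_G2
  hB := rootB_G2
  hinj := rootPhiG2_injective
  words := reachWordsG2
  hreach := reachOK_G2
  T := G2.T
  dT := 12
  hIT := G2.hI
  hBT := G2.hB
  levels := G2.levels
  hlen := by decide
  hchk := G2.hL
  sub := subG2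
  alphas := alphasG2
  hch := chainOK_G2
  halpha := halpha_G2
  hfin := finite_G2

def alphasB2 : List ℕ := [5, 4]
def subB2 : List ℕ := [0, 36]
theorem chainOK_B2 : chainOK reflTabsB2 2 8 4 subB2 alphasB2 0 B2.levels = true := by decide +kernel
theorem halpha_B2 : ∀ i < chevB2.rank, alphasB2.getD i 0 = chevB2.simple i := by decide +kernel

theorem finite_B2 : Finite (CoxeterMatrix.B 2).Group := Nat.finite_of_card_ne_zero (by rw [B2.card_eq]; decide)

/-- the certificates for type B2 -/
noncomputable def certB2 : Cert chevB2 where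
  M := (CoxeterMatrix.B 2)
  Mx := B2.Mx
  hMx := B2.hMx
  tabs := reflTabsB2
  ht := tabsOK_B2
  hbr := braidOK_B2
  hI := rootI_B2
  hB := rootB_B2
  hinj := rootPhiB2_injective
  words := reachWordsB2
  hreach := reachOK_B2
  T := B2.T
  dT := 4
  hIT := B2.hI
  hBT := B2.hB
  levels := B2.levels
  hlen := by decide
  hchk := B2.hL
  sub := subB2
  alphas := alphasB2
  hch := chainOK_B2
  halpha := halpha_B2
  hfin := finite_B2

def alphasD4 : List ℕ := [18, 14, 13, 12]
def subD4 : List ℕ := [0, 262176, 803376, 2975412]
theorem chainOK_D4 : chainOK reflTabsD4 4 24 12 subD4 alphasD4 0 D4.levels = true := by decide +kernel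
theorem halpha_D4 : ∀ i < chevD4.rank, alphasD4.getD i 0 = chevD4.simple i := by decide +kernel

theorem finite_D4 : Finite (Cfsg.Lie.coxeterD4).Group := Nat.finite_of_card_ne_zero (by rw [D4.card_eq]; decide)

/-- the certificates for type D4 -/
noncomputable def certD4 : Cert chevD4 where
  M := (Cfsg.Lie.coxeterD4)
  Mx := D4.Mx
  hMx := D4.hMx
  tabs := reflTabsD4
  ht := tabsOK_D4
  hbr := braidOK_D4
  hI := rootI_D4
  hB := rootB_D4
  hinj := rootPhiD4_injective
  words := reachWordsD4
  hreach := reachOK_D4
  T := D4.T
  dT := 16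
  hIT := D4.hI
  hBT := D4.hB
  levels := D4.levels
  hlen := by decide
  hchk := D4.hL
  sub := subD4
  alphas := alphasD4
  hch := chainOK_D4
  halpha := halpha_D4
  hfin := finite_D4

def alphasF4 : List ℕ := [33, 27, 25, 24]
def subF4 : List ℕ := [0, 8589950976, 25905094656, 2398107628608]
theorem chainOK_F4 : chainOK reflTabsF4 4 48 24 subF4 alphasF4 0 F4.levels = true := by decide +kernel
theorem halpha_F4 : ∀ i < chevF4.rank, alphasF4.getD i 0 = chevF4.simple i := by decide +kernel

theorem finite_F4 : Finite (CoxeterMatrix.F₄).Group := Nat.finite_of_card_ne_zero (by rw [F4.card_eq]; decide)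

/-- the certificates for type F4 -/
noncomputable def certF4 : Cert chevF4 where
  M := (CoxeterMatrix.F₄)
  Mx := F4.Mx
  hMx := F4.hMx
  tabs := reflTabsF4
  ht := tabsOK_F4
  hbr := braidOK_F4
  hI := rootI_F4
  hB := rootB_F4
  hinj := rootPhiF4_injective
  words := reachWordsF4
  hreach := reachOK_F4
  T := F4.T
  dT := 48
  hIT := F4.hI
  hBT := F4.hB
  levels := F4.levels
  hlen := by decide
  hchk := F4.hL
  sub := subF4
  alphas := alphasF4
  hch := chainOK_F4
  halpha := halpha_F4
  hfin := finite_F4

def alphasE6 : List ℕ := [56, 46, 42, 39, 37, 36]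
def subE6 : List ℕ := [0, 72057594037960704, 72127962815692800, 216247549474947072, 2811596922666673152, 174031999679436486288]
theorem chainOK_E6 : chainOK reflTabsE6 6 72 36 subE6 alphasE6 0 E6.levels = true := by decide +kernel
theorem halpha_E6 : ∀ i < chevE6.rank, alphasE6.getD i 0 = chevE6.simple i := by decide +kernel

theorem finite_E6 : Finite (CoxeterMatrix.E₆).Group := Nat.finite_of_card_ne_zero (by rw [E6.card_eq]; decide)

/-- the certificates for type E6 -/
noncomputable def certE6 : Cert chevE6 where
  M := (CoxeterMatrix.E₆)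
  Mx := E6.Mx
  hMx := E6.hMx
  tabs := reflTabsE6
  ht := tabsOK_E6
  hbr := braidOK_E6
  hI := rootI_E6
  hB := rootB_E6
  hinj := rootPhiE6_injective
  words := reachWordsE6
  hreach := reachOK_E6
  T := E6.T
  dT := 27
  hIT := E6.hI
  hBT := E6.hB
  levels := E6.levels
  hlen := by decide
  hchk := E6.hL
  sub := subE6
  alphas := alphasE6
  hch := chainOK_E6
  halpha := halpha_E6
  hfin := finite_E6

def alphasE7 : List ℕ := [93, 78, 73, 69, 66, 64, 63]
def subE7 : List ℕ := [0, 9903520314283042203487961088, 9903822545738086598269992960, 29710872619041640337721262080, 703160549339591360229899501568, 661228526764039142111913634234368, 713408079754819489151476797278889024]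
theorem chainOK_E7 : chainOK reflTabsE7 7 126 63 subE7 alphasE7 0 E7.levels = true := by decide +kernel
theorem halpha_E7 : ∀ i < chevE7.rank, alphasE7.getD i 0 = chevE7.simple i := by decide +kernel

theorem finite_E7 : Finite (CoxeterMatrix.E₇).Group := Nat.finite_of_card_ne_zero (by rw [E7.card_eq]; decide)

/-- the certificates for type E7 -/
noncomputable def certE7 : Cert chevE7 where
  M := (CoxeterMatrix.E₇)
  Mx := E7.Mx
  hMx := E7.hMx
  tabs := reflTabsE7
  ht := tabsOK_E7
  hbr := braidOK_E7
  hI := rootI_E7
  hB := rootB_E7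
  hinj := rootPhiE7_injective
  words := reachWordsE7
  hreach := reachOK_E7
  T := E7.T
  dT := 56
  hIT := E7.hI
  hBT := E7.hB
  levels := E7.levels
  hlen := by decide
  hchk := E7.hL
  sub := subE7
  alphas := alphasE7
  hch := chainOK_E7
  halpha := halpha_E7
  hfin := finite_E7

def alphasE8 : List ℕ := [162, 141, 135, 130, 126, 123, 121, 120]
def subE8 : List ℕ := [0, 5846006549323611672814739481980859530452377010176, 5846009336916761489459544824002700961871741059072, 17538022479120127821251556488254449020247107174400, 789211071059458172569223786575429513138068573388800, 24546206459557462237311293610710128002550437969773199360, 25736583454108785889866830432581230787938373161201194005168128, 108710543288143327890031746055826130797703764420891720848316308660224]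
theorem chainOK_E8 : chainOK reflTabsE8 8 240 120 subE8 alphasE8 0 E8.levels = true := by decide +kernel
theorem halpha_E8 : ∀ i < chevE8.rank, alphasE8.getD i 0 = chevE8.simple i := by decide +kernel

theorem finite_E8 : Finite (CoxeterMatrix.E₈).Group := Nat.finite_of_card_ne_zero (by rw [E8.card_eq]; decide)

/-- the certificates for type E8 -/
noncomputable def certE8 : Cert chevE8 where
  M := (CoxeterMatrix.E₈)
  Mx := E8.Mx
  hMx := E8.hMx
  tabs := reflTabsE8
  ht := tabsOK_E8
  hbr := braidOK_E8
  hI := rootI_E8
  hB := rootB_E8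
  hinj := rootPhiE8_injective
  words := reachWordsE8
  hreach := reachOK_E8
  T := E8.T
  dT := 240
  hIT := E8.hI
  hBT := E8.hB
  levels := E8.levels
  hlen := by decide
  hchk := E8.hL
  sub := subE8
  alphas := alphasE8
  hch := chainOK_E8
  halpha := halpha_E8
  hfin := finite_E8

end Cfsg.Agent.Helper19.Poinc
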