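import Cfsg.Agent.Helper19.Poinc.Data
import Cfsg.Agent.Helper18.BNData

set_option autoImplicit false
set_option maxRecDepth 100000
set_option linter.unusedSectionVars false

/-!
Existence of the canonical form `g = b n_w u` with `u ∈ U_w⁻`, conditional on the statements of
S1031, S1042, S1045: induction over the Weyl group along length-increasing right multiplications.
-/

namespace Cfsg.Agent.Helper19.Poinc

open Cfsg Cfsg.Lie Cfsg.Agent.Helper18 Cfsg.Agent.Helper19.Cox DoubleCoset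

section Bruhat

variable {F : Type*} [Field F] (D : ChevalleyDatum)
  (hD : D ∈ [chevG2, chevB2, chevD4, chevF4, chevE6, chevE7, chevE8]) (C : Cert D)

/-- the combinatorial `U_w⁻` -/
def UnegW (F : Type*) [Field F] (w : C.M.Group) : Subgroup (GL D.Idx F) :=
  Subgroup.closure {x | ∃ (r : ℕ) (t : F), (hlfOf D ≤ r ∧ r < D.nroots) ∧
    phi C.M C.Mx C.hI C.hB C.hMx w r < hlfOf D ∧ x = xGL D F r t}

/-- `U_n⁻` as in the statement of S1100 -/
def UnegN (F : Type*) [Field F] (n : GL D.Idx F) : Subgroup (GL D.Idx F) :=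
  Subgroup.closure {x : GL D.Idx F | ∃ (r : ℕ) (t : F), D.IsPosRoot r ∧
    (D.rootSubgroup F r).map (MulAut.conj n).toMonoidHom ≤ D.negUnipotent F ∧
    (x : Matrix D.Idx D.Idx F) = D.x F r t}

include hD

theorem phi_sg_eq (i r : ℕ) (hi : i < D.rank) (hr : r < D.nroots) :
    phi C.M C.Mx C.hI C.hB C.hMx (sg C.M i) r = D.reflectRoot i r := by
  have h2 := (actW_eq_rho D C.tabs C.ht [i] (by simpa using hi) r hr).1
  rw [← gp_singleton, phi_gp, h2]
  rfl

theorem phi_lt (w : C.M.Group) (r : ℕ) (hr : r < D.nroots) :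
    phi C.M C.Mx C.hI C.hB C.hMx w r < D.nroots := by
  obtain ⟨word, hw, rfl⟩ := exists_word C.M w
  obtain ⟨e1, e2⟩ := actW_eq_rho D C.tabs C.ht word hw r hr
  rw [phi_gp, e1]
  exact e2

theorem phi_neg (w : C.M.Group) (r : ℕ) (hr : r < D.nroots) :
    phi C.M C.Mx C.hI C.hB C.hMx w (D.neg r) = D.neg (phi C.M C.Mx C.hI C.hB C.hMx w r) := by
  have htri := triOK_of_mem D hD
  obtain ⟨word, hw, rfl⟩ := exists_word C.M w
  induction word with
  | nil => simp
  | cons i word ih =>
    have hi : i < D.rank := hw i List.mem_cons_self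
    have hw' : ∀ j ∈ word, j < D.rank := fun j hj => hw j (List.mem_cons_of_mem _ hj)
    have hlt := phi_lt D hD C (gp C.M word) r hr
    rw [gp_cons, map_mul, Equiv.Perm.mul_apply, Equiv.Perm.mul_apply, ih hw',
      phi_sg_eq D hD C i _ hi (triOK_spec D _ htri _ hlt).1, phi_sg_eq D hD C i _ hi hlt,
      reflectRoot_neg D hD i _ hi hlt]

variable (h31 : NConjHyp D F) [hn : (HN D F).Normal]

theorem UnegW_le (w : C.M.Group) (n : ↥(D.monomialSubgroup F))
    (hnw : (QuotientGroup.mk n : ↥(D.monomialSubgroup F) ⧸ HN D F) = psiC D hD C h31 w) :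
    UnegW D C F w ≤ UnegN D F (n : GL D.Idx F) := by
  have htri := triOK_of_mem D hD
  have hpos := posOK_of_mem D hD
  unfold UnegW UnegN
  apply Subgroup.closure_mono
  rintro x ⟨r, t, hr, hneg, rfl⟩
  refine ⟨r, t, (isPosRoot_iff D _ hpos r).mpr hr, ?_, xGL_val D _ htri r t⟩
  rintro z ⟨y, hy, rfl⟩
  obtain ⟨t', rfl⟩ := (mem_rootSubgroup_iff D hD r hr.2 y).mp hy
  obtain ⟨hlt, t'', e⟩ := conj_rep D hD C h31 w n hnw r hr.2 t'
  have e' : (MulAut.conj (n : GL D.Idx F)).toMonoidHom (xGL D F r t') =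
      (n : GL D.Idx F) * xGL D F r t' * (n : GL D.Idx F)⁻¹ := rfl
  rw [e', e]
  exact rootSubgroup_le_negUnipotent D hD _ ((isNegRoot_iff D _ hpos _).mpr ⟨hneg, hlt⟩)
    (xGL_mem_rootSubgroup D hD _ _)

theorem bruhat_exists_aux (h45 : H45 D F) (w : C.M.Group) :
    ∀ (n : ↥(D.monomialSubgroup F)),
      (QuotientGroup.mk n : ↥(D.monomialSubgroup F) ⧸ HN D F) = psiC D hD C h31 w →
      ∀ g ∈ doubleCoset (n : GL D.Idx F) (D.borelSubgroup F : Set (GL D.Idx F)) (D.borelSubgroup F),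
        ∃ b ∈ D.borelSubgroup F, ∃ u ∈ UnegW D C F w, g = b * n * u := by
  have htri := triOK_of_mem D hD
  have hpos := posOK_of_mem D hD
  refine good_induction C.M C.Mx C.hIT C.hBT C.hI C.hB C.hMx C.levels C.hlen C.hchk C.hch
    (fun w => ∀ (n : ↥(D.monomialSubgroup F)),
      (QuotientGroup.mk n : ↥(D.monomialSubgroup F) ⧸ HN D F) = psiC D hD C h31 w →
      ∀ g ∈ doubleCoset (n : GL D.Idx F) (D.borelSubgroup F : Set (GL D.Idx F)) (D.borelSubgroup F),
        ∃ b ∈ D.borelSubgroup F, ∃ u ∈ UnegW D C F w, g = b * n * u) ?_ ?_ w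
  · intro n hn1 g hg
    have h1 : (n : GL D.Idx F) ∈ D.diagonalSubgroup F := by
      rw [map_one] at hn1
      have := (QuotientGroup.eq_one_iff n).mp hn1
      exact Subgroup.mem_subgroupOf.mp this
    obtain ⟨b₁, hb₁, b₂, hb₂, rfl⟩ := mem_doubleCoset.mp hg
    have hnB : (n : GL D.Idx F) ∈ D.borelSubgroup F := Subgroup.mem_sup_right h1
    refine ⟨b₁ * n * b₂ * (n : GL D.Idx F)⁻¹, ?_, 1, Subgroup.one_mem _, by group⟩
    exact mul_mem (mul_mem (mul_mem hb₁ hnB) hb₂) (inv_mem hnB)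
  · intro w i hi hgood IH n' hn' g hg
    have hp := simple_lt D (simpleOK_of_mem D hD) i hi
    rw [C.halpha i hi] at hgood
    unfold posB at hgood
    simp only [Bool.and_eq_true, decide_eq_true_eq] at hgood
    have hniv : ((nN D F (D.simple i) : ↥(D.monomialSubgroup F)) : GL D.Idx F) = npGL D F i :=
      nN_val D hD _ hp
    have hpsi : (QuotientGroup.mk (nN D F (D.simple i)) : ↥(D.monomialSubgroup F) ⧸ HN D F) =
        psiC D hD C h31 (sg C.M i) := by
      unfold psiC
      rw [psi_sg D hD C.M C.Mx C.hMx C.tabs C.ht C.hbr h31 i hi]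
      rfl
    have hnw : (QuotientGroup.mk (n' * (nN D F (D.simple i))⁻¹) : ↥(D.monomialSubgroup F) ⧸ HN D F) =
        psiC D hD C h31 w := by
      rw [QuotientGroup.mk_mul, QuotientGroup.mk_inv, hn', hpsi, map_mul, mul_inv_cancel_right]
    have hn'eq : (n' : GL D.Idx F) =
        ((n' * (nN D F (D.simple i))⁻¹ : ↥(D.monomialSubgroup F)) : GL D.Idx F) * npGL D F i := by
      rw [Subgroup.coe_mul, Subgroup.coe_inv, hniv]; group
    obtain ⟨b₁, hb₁, b₂, hb₂, rfl⟩ := mem_doubleCoset.mp hg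
    obtain ⟨y, hy, x, hx, rfl⟩ := decomp_borel D hD h45 i hi b₂ hb₂
    have hy' : npGL D F i * y * (npGL D F i)⁻¹ ∈ Up D F i ⊔ D.diagonalSubgroup F :=
      (Subgroup.mem_normalizer_iff.mp (npGL_mem_normalizer D hD h45 i hi) y).mp hy
    have hyB : npGL D F i * y * (npGL D F i)⁻¹ ∈ D.borelSubgroup F :=
      (sup_le ((Up_le_posUnipotent D i).trans le_sup_left) le_sup_right :
        Up D F i ⊔ D.diagonalSubgroup F ≤ D.borelSubgroup F) hy'
    obtain ⟨b, hb, u, hu, e⟩ := IH _ hnw _ (mem_doubleCoset.mpr ⟨b₁, hb₁, _, hyB, rfl⟩)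
    obtain ⟨t, rfl⟩ := (mem_rootSubgroup_iff D hD _ hp x).mp hx
    -- conjugation of `U_w⁻` by `n_i⁻¹`
    have hconj : ∀ u ∈ UnegW D C F w, (npGL D F i)⁻¹ * u * npGL D F i ∈ UnegW D C F (w * sg C.M i) := by
      intro u hu
      unfold UnegW at hu
      induction hu using Subgroup.closure_induction with
      | mem x hx =>
        obtain ⟨r, t, hr, hneg, rfl⟩ := hx
        have hrne : r ≠ D.simple i := by rintro rfl; omega
        obtain ⟨h1, h2, h3⟩ := reflectRoot_pos D hD i r hi hr hrne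
        obtain ⟨η, hη, hc⟩ := nGL_conj_xGL D hD h31 i (D.reflectRoot i r) hi h2
        have hinv : D.reflectRoot i (D.reflectRoot i r) = r := by
          rw [← phi_sg_eq D hD C i _ hi h2, ← phi_sg_eq D hD C i r hi hr.2, ← Equiv.Perm.mul_apply,
            ← map_mul, sg_mul_self, map_one, Equiv.Perm.one_apply]
        rw [hinv] at hc
        have hη2 : (η : F) * (η : F) = 1 := by rcases hη with rfl | rfl <;> simp
        have e := hc ((η : F) * t)
        rw [← mul_assoc, hη2, one_mul] at e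
        have e2 : (npGL D F i)⁻¹ * xGL D F r t * npGL D F i =
            xGL D F (D.reflectRoot i r) ((η : F) * t) := by
          have e3 : xGL D F r t * npGL D F i = npGL D F i * xGL D F (D.reflectRoot i r) ((η : F) * t) :=
            e.symm
          rw [mul_assoc, e3]; group
        rw [e2]
        apply Subgroup.subset_closure
        refine ⟨_, _, ⟨h1, h2⟩, ?_, rfl⟩
        rw [map_mul, Equiv.Perm.mul_apply, phi_sg_eq D hD C i _ hi h2, hinv]
        exact hneg
      | one => simp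
      | mul a b _ _ ha hb =>
        have : (npGL D F i)⁻¹ * (a * b) * npGL D F i =
            ((npGL D F i)⁻¹ * a * npGL D F i) * ((npGL D F i)⁻¹ * b * npGL D F i) := by group
        rw [this]; exact mul_mem ha hb
      | inv a _ ha =>
        have : (npGL D F i)⁻¹ * a⁻¹ * npGL D F i = ((npGL D F i)⁻¹ * a * npGL D F i)⁻¹ := by group
        rw [this]; exact inv_mem ha
    refine ⟨b, hb, (npGL D F i)⁻¹ * u * npGL D F i * xGL D F (D.simple i) t, ?_, ?_⟩
    · apply mul_mem (hconj u hu)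
      apply Subgroup.subset_closure
      obtain ⟨hsp, -, hsn⟩ := simpleSign_spec D hD i hi
      refine ⟨D.simple i, t, (isPosRoot_iff D _ hpos _).mp hsp, ?_, rfl⟩
      rw [map_mul, Equiv.Perm.mul_apply, phi_sg_eq D hD C i _ hi hp, reflectRoot_simple,
        phi_neg D hD C w _ hp]
      exact (triOK_spec D _ htri _ (phi_lt D hD C w _ hp)).2.2.2 hgood.1
    · calc b₁ * (n' : GL D.Idx F) * (y * xGL D F (D.simple i) t)
          = (b₁ * ((n' * (nN D F (D.simple i))⁻¹ : ↥(D.monomialSubgroup F)) : GL D.Idx F) *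
              (npGL D F i * y * (npGL D F i)⁻¹)) * npGL D F i * xGL D F (D.simple i) t := by
            rw [hn'eq]; group
        _ = b * ((n' * (nN D F (D.simple i))⁻¹ : ↥(D.monomialSubgroup F)) : GL D.Idx F) * u *
              npGL D F i * xGL D F (D.simple i) t := by rw [e]
        _ = b * (n' : GL D.Idx F) * ((npGL D F i)⁻¹ * u * npGL D F i * xGL D F (D.simple i) t) := by
            rw [hn'eq]; group

include C h31 in
/-- existence of the canonical form -/
theorem bruhat_exists (h42 : H42 D F) (h45 : H45 D F) (g : GL D.Idx F) (hg : g ∈ D.group F) :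
    ∃ b ∈ D.borelSubgroup F, ∃ n ∈ D.monomialSubgroup F, ∃ u ∈ UnegN D F n, g = b * n * u := by
  obtain ⟨w, n, hnw, hgn⟩ := DC_cover D hD C h31 h42 ⟨g, hg⟩
  obtain ⟨b, hb, u, hu, e⟩ := bruhat_exists_aux D hD C h31 h45 w n hnw g hgn
  exact ⟨b, hb, n, n.2, u, UnegW_le D hD C h31 w n hnw hu, e⟩

end Bruhat

/-- a certificate exists for each of the seven types -/
theorem exists_cert (D : ChevalleyDatum)
    (hD : D ∈ [chevG2, chevB2, chevD4, chevF4, chevE6, chevE7, chevE8]) : Nonempty (Cert D) := by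
  simp only [List.mem_cons, List.not_mem_nil, or_false] at hD
  rcases hD with rfl | rfl | rfl | rfl | rfl | rfl | rfl
  · exact ⟨certG2⟩
  · exact ⟨certB2⟩
  · exact ⟨certD4⟩
  · exact ⟨certF4⟩
  · exact ⟨certE6⟩
  · exact ⟨certE7⟩
  · exact ⟨certE8⟩

/-- existence of the canonical form, in the shape of the statement of S1100 -/
theorem bruhat_exists' {F : Type*} [Field F] (D : ChevalleyDatum)
    (hD : D ∈ [chevG2, chevB2, chevD4, chevF4, chevE6, chevE7, chevE8])
    (h31 : NConjHyp D F) [hn : (HN D F).Normal] (h42 : H42 D F) (h45 : H45 D F) :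
    ∀ g ∈ D.group F, ∃ b ∈ D.borelSubgroup F, ∃ n ∈ D.monomialSubgroup F,
      ∃ u ∈ Subgroup.closure {x : GL D.Idx F | ∃ (r : ℕ) (t : F), D.IsPosRoot r ∧
            (D.rootSubgroup F r).map (MulAut.conj n).toMonoidHom ≤ D.negUnipotent F ∧ (x : Matrix D.Idx D.Idx F) = D.x F r t},
        g = b * n * u := by
  obtain ⟨C⟩ := exists_cert D hD
  intro g hg
  exact bruhat_exists D hD C h31 h42 h45 g hg

end Cfsg.Agent.Helper19.Poinc
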