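import Cfsg.Agent.Helper19.Poinc.Data
import Cfsg.Agent.Helper73.Poincare
import Cfsg.Agent.S1035
import Cfsg.Agent.S1038

set_option autoImplicit false

/-!
The orders of the Chevalley groups of types G2, B2, D4, F4, E6, E7, E8, conditional on the
statements of S1031 (`n_i X_s n_i⁻¹ = X_{w_i s}`), S1042 (BN pair), S1044 (`B ∪ B n_i B` is a subgroup), S1045 (`U = X_i U_i`) and
S1027 (`|U| = q^N`), which are taken as hypotheses here.
-/

namespace Cfsg.Agent.Helper19.Poinc

open Cfsg Cfsg.Lie Cfsg.Agent.Helper18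

theorem order_arith {G P U H d q n R N : ℕ} (hG : G = P * (U * H)) (hH : d * H = (q - 1) ^ n)
    (hP : P * (q - 1) ^ n = R) (hU : U = q ^ N) : d * G = q ^ N * R := by
  subst hG hU
  rw [← hP, ← hH]
  ring

theorem order_G2 {F : Type*} [Field F] [Fintype F] {q : ℕ} (hq : Fintype.card F = q)
    (h31 : NConjHyp chevG2 F) (h42 : H42 chevG2 F) (h44 : H44 chevG2 F) (h45 : H45 chevG2 F)
    (hU : Nat.card (chevG2.posUnipotent F) = Fintype.card F ^ (chevG2.nroots / 2)) :
    Nat.card ↥(chevG2.group F) = q^6*(q^2-1)*(q^6-1) := by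
  have : (HN chevG2 F).Normal := Cfsg.Agent.S1038.result chevG2 (by simp)
  have hG := card_group chevG2 (by simp) certG2 h31 h42 h44 h45
  have hH := Cfsg.Agent.S1035.result hq (chevG2, 1) (by simp)
  have hP := Cfsg.Agent.Helper73.poincare_G2 q (by rw [← hq]; exact Fintype.card_pos)
  rw [hq] at hG hU
  have hU' : Nat.card (chevG2.posUnipotent F) = q ^ 6 := hU
  have h := order_arith hG hH hP hU'
  simp only [one_mul] at h
  rw [h]
  simp only [mul_assoc]

theorem order_B2 {F : Type*} [Field F] [Fintype F] {q : ℕ} (hq : Fintype.card F = q)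
    (h31 : NConjHyp chevB2 F) (h42 : H42 chevB2 F) (h44 : H44 chevB2 F) (h45 : H45 chevB2 F)
    (hU : Nat.card (chevB2.posUnipotent F) = Fintype.card F ^ (chevB2.nroots / 2)) :
    Nat.gcd 2 (q - 1) * Nat.card ↥(chevB2.group F) = q^4*(q^2-1)*(q^4-1) := by
  have : (HN chevB2 F).Normal := Cfsg.Agent.S1038.result chevB2 (by simp)
  have hG := card_group chevB2 (by simp) certB2 h31 h42 h44 h45
  have hH := Cfsg.Agent.S1035.result hq (chevB2, Nat.gcd 2 (q - 1)) (by simp)
  have hP := Cfsg.Agent.Helper73.poincare_B2 q (by rw [← hq]; exact Fintype.card_pos)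
  rw [hq] at hG hU
  have hU' : Nat.card (chevB2.posUnipotent F) = q ^ 4 := hU
  have h := order_arith hG hH hP hU'
  rw [h]
  simp only [mul_assoc]

theorem order_D4 {F : Type*} [Field F] [Fintype F] {q : ℕ} (hq : Fintype.card F = q)
    (h31 : NConjHyp chevD4 F) (h42 : H42 chevD4 F) (h44 : H44 chevD4 F) (h45 : H45 chevD4 F)
    (hU : Nat.card (chevD4.posUnipotent F) = Fintype.card F ^ (chevD4.nroots / 2)) :
    Nat.gcd 2 (q - 1) ^ 2 * Nat.card ↥(chevD4.group F) = q^12*(q^2-1)*(q^4-1)*(q^4-1)*(q^6-1) := by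
  have : (HN chevD4 F).Normal := Cfsg.Agent.S1038.result chevD4 (by simp)
  have hG := card_group chevD4 (by simp) certD4 h31 h42 h44 h45
  have hH := Cfsg.Agent.S1035.result hq (chevD4, Nat.gcd 2 (q - 1) ^ 2) (by simp)
  have hP := Cfsg.Agent.Helper73.poincare_D4 q (by rw [← hq]; exact Fintype.card_pos)
  rw [hq] at hG hU
  have hU' : Nat.card (chevD4.posUnipotent F) = q ^ 12 := hU
  have h := order_arith hG hH hP hU'
  rw [h]
  simp only [mul_assoc]

theorem order_F4 {F : Type*} [Field F] [Fintype F] {q : ℕ} (hq : Fintype.card F = q)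
    (h31 : NConjHyp chevF4 F) (h42 : H42 chevF4 F) (h44 : H44 chevF4 F) (h45 : H45 chevF4 F)
    (hU : Nat.card (chevF4.posUnipotent F) = Fintype.card F ^ (chevF4.nroots / 2)) :
    Nat.card ↥(chevF4.group F) = q^24*(q^2-1)*(q^6-1)*(q^8-1)*(q^12-1) := by
  have : (HN chevF4 F).Normal := Cfsg.Agent.S1038.result chevF4 (by simp)
  have hG := card_group chevF4 (by simp) certF4 h31 h42 h44 h45
  have hH := Cfsg.Agent.S1035.result hq (chevF4, 1) (by simp)
  have hP := Cfsg.Agent.Helper73.poincare_F4 q (by rw [← hq]; exact Fintype.card_pos)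
  rw [hq] at hG hU
  have hU' : Nat.card (chevF4.posUnipotent F) = q ^ 24 := hU
  have h := order_arith hG hH hP hU'
  simp only [one_mul] at h
  rw [h]
  simp only [mul_assoc]

theorem order_E6 {F : Type*} [Field F] [Fintype F] {q : ℕ} (hq : Fintype.card F = q)
    (h31 : NConjHyp chevE6 F) (h42 : H42 chevE6 F) (h44 : H44 chevE6 F) (h45 : H45 chevE6 F)
    (hU : Nat.card (chevE6.posUnipotent F) = Fintype.card F ^ (chevE6.nroots / 2)) :
    Nat.gcd 3 (q - 1) * Nat.card ↥(chevE6.group F) = q^36*(q^2-1)*(q^5-1)*(q^6-1)*(q^8-1)*(q^9-1)*(q^12-1) := by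
  have : (HN chevE6 F).Normal := Cfsg.Agent.S1038.result chevE6 (by simp)
  have hG := card_group chevE6 (by simp) certE6 h31 h42 h44 h45
  have hH := Cfsg.Agent.S1035.result hq (chevE6, Nat.gcd 3 (q - 1)) (by simp)
  have hP := Cfsg.Agent.Helper73.poincare_E6 q (by rw [← hq]; exact Fintype.card_pos)
  rw [hq] at hG hU
  have hU' : Nat.card (chevE6.posUnipotent F) = q ^ 36 := hU
  have h := order_arith hG hH hP hU'
  rw [h]
  simp only [mul_assoc]

theorem order_E7 {F : Type*} [Field F] [Fintype F] {q : ℕ} (hq : Fintype.card F = q)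
    (h31 : NConjHyp chevE7 F) (h42 : H42 chevE7 F) (h44 : H44 chevE7 F) (h45 : H45 chevE7 F)
    (hU : Nat.card (chevE7.posUnipotent F) = Fintype.card F ^ (chevE7.nroots / 2)) :
    Nat.gcd 2 (q - 1) * Nat.card ↥(chevE7.group F) = q^63*(q^2-1)*(q^6-1)*(q^8-1)*(q^10-1)*(q^12-1)*(q^14-1)*(q^18-1) := by
  have : (HN chevE7 F).Normal := Cfsg.Agent.S1038.result chevE7 (by simp)
  have hG := card_group chevE7 (by simp) certE7 h31 h42 h44 h45
  have hH := Cfsg.Agent.S1035.result hq (chevE7, Nat.gcd 2 (q - 1)) (by simp)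
  have hP := Cfsg.Agent.Helper73.poincare_E7 q (by rw [← hq]; exact Fintype.card_pos)
  rw [hq] at hG hU
  have hU' : Nat.card (chevE7.posUnipotent F) = q ^ 63 := hU
  have h := order_arith hG hH hP hU'
  rw [h]
  simp only [mul_assoc]

theorem order_E8 {F : Type*} [Field F] [Fintype F] {q : ℕ} (hq : Fintype.card F = q)
    (h31 : NConjHyp chevE8 F) (h42 : H42 chevE8 F) (h44 : H44 chevE8 F) (h45 : H45 chevE8 F)
    (hU : Nat.card (chevE8.posUnipotent F) = Fintype.card F ^ (chevE8.nroots / 2)) :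
    Nat.card ↥(chevE8.group F) = q^120*(q^2-1)*(q^8-1)*(q^12-1)*(q^14-1)*(q^18-1)*(q^20-1)*(q^24-1)*(q^30-1) := by
  have : (HN chevE8 F).Normal := Cfsg.Agent.S1038.result chevE8 (by simp)
  have hG := card_group chevE8 (by simp) certE8 h31 h42 h44 h45
  have hH := Cfsg.Agent.S1035.result hq (chevE8, 1) (by simp)
  have hP := Cfsg.Agent.Helper73.poincare_E8 q (by rw [← hq]; exact Fintype.card_pos)
  rw [hq] at hG hU
  have hU' : Nat.card (chevE8.posUnipotent F) = q ^ 120 := hU
  have h := order_arith hG hH hP hU'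
  simp only [one_mul] at h
  rw [h]
  simp only [mul_assoc]
end Cfsg.Agent.Helper19.Poinc
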