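import Cfsg.Agent.Helper19.Poinc.Chain

set_option autoImplicit false

/-!
A weighted version of the counting engine: for a function `F` on a Coxeter group which is
multiplied by `Q i` under right multiplication by the `i`-th simple reflection at a positive
image of the `i`-th simple root, the sum of `F` over the group is `F 1` times the product over a
parabolic chain of the sums of the weights of the coset representatives.
-/

namespace Cfsg.Agent.Helper19.Poinc

open Cfsg.Agent.Helper19.Cox CoxeterSystem

section WCount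

variable {n : ℕ} (M : CoxeterMatrix (Fin n)) {T : List ℕ} {dT : ℕ} (Mx : ℕ → ℕ → ℕ)
  (hIT : checkInvol T n dT = true) (hBT : checkBraid Mx T n dT = true)
  {R : List ℕ} {d : ℕ}
  (hI : checkInvol R n d = true) (hB : checkBraid Mx R n d = true)
  (hMx : ∀ a b (ha : a < n) (hb : b < n), M ⟨a, ha⟩ ⟨b, hb⟩ = Mx a b)
  (F : M.Group → ℕ) (Q : ℕ → ℕ) {hlf : ℕ} {alphas sub : List ℕ}
  (hstep : ∀ (w : M.Group) (i : ℕ), i < n →
    posB hlf d (phi M Mx hI hB hMx w (alphas.getD i 0)) = true → F (w * sg M i) = Q i * F w)

/-- the weight of a word -/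
def wprod (Q : ℕ → ℕ) (r : List ℕ) : ℕ := (r.map Q).prod

include hstep in
theorem F_mul_take {k : ℕ} (hst : stableOK R n d hlf sub k = true) {h : M.Group}
    (hh : h ∈ Wsub M k) (r : List ℕ) (hr : repOK R n d hlf sub alphas k r = true) :
    ∀ j ≤ r.length, F (h * gp M (r.take j)) = wprod Q (r.take j) * F h := by
  intro j
  induction j with
  | zero =>
    intro _
    rw [List.take_zero, gp_nil, mul_one]
    simp [wprod]
  | succ j ih =>
    intro hj
    have hjl : j < r.length := hj
    unfold repOK at hr
    rw [List.all_eq_true] at hr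
    have h1 := hr j (List.mem_range.mpr hjl)
    simp only [Bool.and_eq_true, decide_eq_true_eq, Bool.not_eq_eq_eq_not, Bool.not_true] at h1
    obtain ⟨⟨hlt, hpos⟩, hns⟩ := h1
    have hget : r.getD j 0 = r[j] := by
      rw [List.getD_eq_getElem?_getD, List.getElem?_eq_getElem hjl]; rfl
    rw [hget] at hlt hpos hns
    rw [List.take_succ_eq_append_getElem hjl, gp_append, gp_singleton, ← mul_assoc]
    have hgood : posB hlf d (phi M Mx hI hB hMx (h * gp M (r.take j)) (alphas.getD r[j] 0)) = true := by
      rw [map_mul, Equiv.Perm.mul_apply, phi_gp]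
      exact (stable_of_mem M Mx hI hB hMx hst h hh _ hpos hns).1
    rw [hstep _ _ hlt hgood, ih (by omega)]
    unfold wprod
    rw [List.map_append, List.prod_append, List.map_singleton, List.prod_singleton]
    ring

include hstep in
theorem F_mul_gp {k : ℕ} (hst : stableOK R n d hlf sub k = true) {h : M.Group}
    (hh : h ∈ Wsub M k) (r : List ℕ) (hr : repOK R n d hlf sub alphas k r = true) :
    F (h * gp M r) = wprod Q r * F h := by
  have := F_mul_take M Mx hI hB hMx F Q hstep hst hh r hr r.length le_rfl
  rwa [List.take_length] at this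

/-- the total of `F` over a subgroup -/
noncomputable def totF (K : Subgroup M.Group) : ℕ := ∑ᶠ g : K, F (g : M.Group)

include hIT hBT hstep in
theorem totF_level {k : ℕ} (hk1 : 1 ≤ k) (hkn : k ≤ n) (lv : Level)
    (h : checkLevel Mx T n dT k lv = true) (hst : stableOK R n d hlf sub (k - 1) = true)
    (hreps : (lv.1.all fun r => repOK R n d hlf sub alphas (k - 1) r) = true)
    [Finite M.Group] :
    totF M F (Wsub M k) = (lv.1.map fun r => wprod Q r).sum * totF M F (Wsub M (k - 1)) := by
  obtain ⟨hmem, hcov, hinj⟩ := level_decomp M Mx hIT hBT hMx hk1 hkn lv h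
  have hle : Wsub M (k - 1) ≤ Wsub M k := Wsub_mono M (by omega)
  let f : Fin lv.1.length × Wsub M (k - 1) → Wsub M k := fun p =>
    ⟨(p.2 : M.Group) * rp M lv.1 p.1, Subgroup.mul_mem _ (hle p.2.2) (hmem _)⟩
  have hf : Function.Bijective f := by
    constructor
    · rintro ⟨c, g⟩ ⟨c', g'⟩ he
      have he' : (g : M.Group) * rp M lv.1 c = (g' : M.Group) * rp M lv.1 c' :=
        congrArg Subtype.val he
      obtain ⟨h1, h2⟩ := hinj g.2 g'.2 c.2 c'.2 he'
      exact Prod.ext (Fin.ext h1) (Subtype.ext h2)
    · rintro ⟨g, hg⟩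
      obtain ⟨c, hc, h', hh', rfl⟩ := hcov g hg
      exact ⟨(⟨c, hc⟩, ⟨h', hh'⟩), rfl⟩
  letI : Fintype (Wsub M k) := Fintype.ofFinite _
  letI : Fintype (Wsub M (k - 1)) := Fintype.ofFinite _
  unfold totF
  rw [finsum_eq_sum_of_fintype, finsum_eq_sum_of_fintype]
  rw [← Fintype.sum_equiv (Equiv.ofBijective f hf)
    (fun p => F ((p.2 : M.Group) * rp M lv.1 p.1)) _ (fun p => rfl)]
  rw [Fintype.sum_prod_type]
  have hinner : ∀ c : Fin lv.1.length, ∑ g : Wsub M (k - 1), F ((g : M.Group) * rp M lv.1 c) =
      wprod Q (lv.1[c.1]) * ∑ g : Wsub M (k - 1), F (g : M.Group) := by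
    intro c
    rw [Finset.mul_sum]
    apply Finset.sum_congr rfl
    intro g _
    have hrc : rp M lv.1 c = gp M lv.1[c.1] := by
      unfold rp
      rw [List.getD_eq_getElem?_getD, List.getElem?_eq_getElem c.2]; rfl
    rw [hrc]
    apply F_mul_gp M Mx hI hB hMx F Q hstep hst g.2
    rw [List.all_eq_true] at hreps
    exact hreps _ (List.getElem_mem c.2)
  simp_rw [hinner]
  rw [← Finset.sum_mul, Fin.sum_univ_fun_getElem lv.1 (fun r => wprod Q r)]

include hIT hBT hstep in
theorem totF_levels [Finite M.Group] : ∀ (levels : List Level) (k : ℕ), k + levels.length ≤ n →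
    checkLevels Mx T n dT k levels = true → chainOK R n d hlf sub alphas k levels = true →
    totF M F (Wsub M (k + levels.length)) =
      (levels.map fun lv => (lv.1.map fun r => wprod Q r).sum).prod * totF M F (Wsub M k) := by
  intro levels
  induction levels with
  | nil =>
    intro k _ _ _
    simp
  | cons lv rest ih =>
    intro k hkn hchk hch
    rw [checkLevels, Bool.and_eq_true] at hchk
    rw [chainOK, Bool.and_eq_true, Bool.and_eq_true] at hch
    rw [List.length_cons] at hkn
    have h1 := totF_level M Mx hIT hBT hI hB hMx F Q hstep (k := k + 1) (by omega) (by omega) lv hchk.1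
      (by rw [Nat.add_sub_cancel]; exact hch.1.1) (by rw [Nat.add_sub_cancel]; exact hch.1.2)
    rw [Nat.add_sub_cancel] at h1
    have h2 := ih (k + 1) (by omega) hchk.2 hch.2
    have e : k + (lv :: rest).length = k + 1 + rest.length := by rw [List.length_cons]; omega
    rw [e, h2, h1, List.map_cons, List.prod_cons]
    ring

theorem totF_bot : totF M F (Wsub M 0) = F 1 := by
  unfold totF
  rw [Wsub_zero]
  haveI : Unique (⊥ : Subgroup M.Group) := inferInstance
  rw [finsum_unique]
  have : ((default : (⊥ : Subgroup M.Group)) : M.Group) = 1 := Subgroup.mem_bot.mp (default : (⊥ : Subgroup M.Group)).2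
  rw [this]

theorem totF_top [Fintype M.Group] : totF M F (Wsub M n) = ∑ w : M.Group, F w := by
  unfold totF
  rw [Wsub_top]
  rw [← finsum_comp_equiv (Subgroup.topEquiv (G := M.Group)).toEquiv.symm, finsum_eq_sum_of_fintype]
  rfl

include hIT hBT hstep in
/-- the weighted counting theorem -/
theorem sum_eq_of_weights [Fintype M.Group] (levels : List Level) (hlen : levels.length = n)
    (hchk : checkLevels Mx T n dT 0 levels = true)
    (hch : chainOK R n d hlf sub alphas 0 levels = true) :
    ∑ w : M.Group, F w = (levels.map fun lv => (lv.1.map fun r => wprod Q r).sum).prod * F 1 := by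
  have h := totF_levels M Mx hIT hBT hI hB hMx F Q hstep levels 0 (by omega) hchk hch
  rw [Nat.zero_add, hlen, totF_top, totF_bot] at h
  exact h

end WCount

end Cfsg.Agent.Helper19.Poinc
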