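import Mathlib

set_option autoImplicit false

/-!
Group-theoretic lemmas for counting double cosets: products of a subgroup with a subgroup
normalising it, and the step `|B n n_p B| = q |B n B|`.
-/

namespace Cfsg.Agent.Helper19.Poinc

open DoubleCoset

section

variable {G : Type*} [Group G]

/-- if `X` normalises `A` then every element of `A ⊔ X` is a product `a * x` -/
theorem exists_mul_of_mem_sup {A X : Subgroup G} (h : X ≤ Subgroup.normalizer (A : Set G)) {g : G}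
    (hg : g ∈ A ⊔ X) : ∃ a ∈ A, ∃ x ∈ X, g = a * x := by
  let S : Subgroup G :=
    { carrier := {g | ∃ a ∈ A, ∃ x ∈ X, g = a * x}
      one_mem' := ⟨1, A.one_mem, 1, X.one_mem, by simp⟩
      mul_mem' := by
        rintro _ _ ⟨a, ha, x, hx, rfl⟩ ⟨a', ha', x', hx', rfl⟩
        refine ⟨a * (x * a' * x⁻¹), A.mul_mem ha ?_, x * x', X.mul_mem hx hx', by group⟩
        exact (Subgroup.mem_normalizer_iff.mp (h hx) a').mp ha'
      inv_mem' := by
        rintro _ ⟨a, ha, x, hx, rfl⟩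
        refine ⟨x⁻¹ * a⁻¹ * x⁻¹⁻¹, ?_, x⁻¹, X.inv_mem hx, by group⟩
        exact (Subgroup.mem_normalizer_iff.mp (h (X.inv_mem hx)) a⁻¹).mp (A.inv_mem ha) }
  have hA : A ≤ S := fun a ha => ⟨a, ha, 1, X.one_mem, by simp⟩
  have hX : X ≤ S := fun x hx => ⟨1, A.one_mem, x, hx, by simp⟩
  exact (sup_le hA hX) hg

/-- the same with the factors in the other order -/
theorem exists_mul_of_mem_sup' {A X : Subgroup G} (h : X ≤ Subgroup.normalizer (A : Set G)) {g : G}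
    (hg : g ∈ A ⊔ X) : ∃ x ∈ X, ∃ a ∈ A, g = x * a := by
  obtain ⟨a, ha, x, hx, e⟩ := exists_mul_of_mem_sup h ((A ⊔ X).inv_mem hg)
  refine ⟨x⁻¹, X.inv_mem hx, a⁻¹, A.inv_mem ha, ?_⟩
  rw [← mul_inv_rev, ← e, inv_inv]

/-- a bijection-free counting lemma: `A'` is the disjoint union of the translates `A * z t` -/
theorem ncard_of_translates {ι : Type*} [Finite ι] (A A' : Set G) (z : ι → G) (hfin : A.Finite)
    (hsub : ∀ a' ∈ A', ∃ a ∈ A, ∃ t, a' = a * z t)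
    (hsup : ∀ a ∈ A, ∀ t, a * z t ∈ A')
    (hdis : ∀ a ∈ A, ∀ a₁ ∈ A, ∀ t t₁, a * z t = a₁ * z t₁ → t = t₁) :
    A'.ncard = Nat.card ι * A.ncard := by
  haveI : Finite A := hfin.to_subtype
  let f : A × ι → A' := fun p => ⟨(p.1 : G) * z p.2, hsup _ p.1.2 _⟩
  have hf : Function.Bijective f := by
    constructor
    · rintro ⟨⟨a, ha⟩, t⟩ ⟨⟨a₁, ha₁⟩, t₁⟩ he
      have he' : a * z t = a₁ * z t₁ := congrArg Subtype.val he
      have ht := hdis a ha a₁ ha₁ t t₁ he'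
      subst ht
      have := mul_right_cancel he'
      subst this
      rfl
    · rintro ⟨a', ha'⟩
      obtain ⟨a, ha, t, rfl⟩ := hsub a' ha'
      exact ⟨(⟨a, ha⟩, t), rfl⟩
  have h1 := Nat.card_congr (Equiv.ofBijective f hf)
  rw [Nat.card_prod, _root_.Nat.card_coe_set_eq, _root_.Nat.card_coe_set_eq] at h1
  rw [← h1, mul_comm]

/-- the counting step for double cosets -/
theorem ncard_doubleCoset_step {ι : Type*} [Finite ι] [Finite G] (B Y X : Subgroup G) (n np : G)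
    (xp : ι → G)
    (hYB : Y ≤ B) (hXB : X ≤ B) (hB : ∀ b ∈ B, ∃ y ∈ Y, ∃ x ∈ X, b = y * x)
    (hxp : ∀ t, xp t ∈ X) (hxp' : ∀ x ∈ X, ∃ t, x = xp t)
    (hnp : np ∈ Subgroup.normalizer (Y : Set G))
    (hneg : ∀ t t₁, t ≠ t₁ → np * (xp t * (xp t₁)⁻¹) * np⁻¹ ∈ doubleCoset np (B : Set G) B)
    (hpos : ∀ x ∈ X, n * x * n⁻¹ ∈ B)
    (hdisj : ∀ g, g ∈ doubleCoset n (B : Set G) B → g ∈ doubleCoset (n * np) (B : Set G) B → False) :
    (doubleCoset (n * np) (B : Set G) B).ncard = Nat.card ι * (doubleCoset n (B : Set G) B).ncard := by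
  -- `B = X * Y` as well
  have hB' : ∀ b ∈ B, ∃ x ∈ X, ∃ y ∈ Y, b = x * y := by
    intro b hb
    obtain ⟨y, hy, x, hx, e⟩ := hB b⁻¹ (B.inv_mem hb)
    refine ⟨x⁻¹, X.inv_mem hx, y⁻¹, Y.inv_mem hy, ?_⟩
    rw [← mul_inv_rev, ← e, inv_inv]
  -- `B n B n_p B ⊆ B n n_p B`
  have K4 : ∀ b₁ ∈ B, ∀ b₂ ∈ B, ∀ b₃ ∈ B, b₁ * n * b₂ * np * b₃ ∈ doubleCoset (n * np) (B : Set G) B := by
    intro b₁ h₁ b₂ h₂ b₃ h₃
    obtain ⟨x, hx, y, hy, rfl⟩ := hB' b₂ h₂
    rw [mem_doubleCoset]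
    refine ⟨b₁ * (n * x * n⁻¹), B.mul_mem h₁ (hpos x hx), np⁻¹ * y * np * b₃, B.mul_mem (hYB ?_) h₃, by group⟩
    have := (Subgroup.mem_normalizer_iff.mp (Subgroup.inv_mem _ hnp) y).mp hy
    simpa using this
  apply ncard_of_translates _ _ (fun t => np * xp t) (Set.toFinite _)
  · intro a' ha'
    obtain ⟨b, hb, b', hb', rfl⟩ := mem_doubleCoset.mp ha'
    obtain ⟨y, hy, x, hx, rfl⟩ := hB b' hb'
    obtain ⟨t, rfl⟩ := hxp' x hx
    refine ⟨b * n * (np * y * np⁻¹), ?_, t, by group⟩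
    rw [mem_doubleCoset]
    exact ⟨b, hb, np * y * np⁻¹, hYB ((Subgroup.mem_normalizer_iff.mp hnp y).mp hy), by group⟩
  · intro a ha t
    obtain ⟨b, hb, b', hb', rfl⟩ := mem_doubleCoset.mp ha
    have := K4 b hb b' hb' (xp t) (hXB (hxp t))
    convert this using 1
    group
  · intro a ha a₁ ha₁ t t₁ he
    by_contra hne
    have e1 : a₁ = a * (np * (xp t * (xp t₁)⁻¹) * np⁻¹) := by
      have : a₁ = a * (np * xp t) * (np * xp t₁)⁻¹ := by rw [he]; group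
      rw [this]; group
    obtain ⟨b, hb, b', hb', rfl⟩ := mem_doubleCoset.mp ha
    obtain ⟨c, hc, c', hc', e2⟩ := mem_doubleCoset.mp (hneg t t₁ hne)
    apply hdisj a₁ ha₁
    rw [e1, e2]
    have := K4 b hb (b' * c) (B.mul_mem hb' hc) c' hc'
    convert this using 1
    group

end

end Cfsg.Agent.Helper19.Poinc
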