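import Cfsg.Agent.Helper18.WeylHom
import Cfsg.Agent.Helper18.Core
import Cfsg.Agent.S1023
import Cfsg.Agent.S1024
import Cfsg.Agent.Helper19.Poinc.GroupLemmas
import Cfsg.Agent.S1036
import Cfsg.Agent.S1037

set_option autoImplicit false
set_option maxRecDepth 100000

/-!
The counting step `|B n n_p B| = q |B n B|` in the Chevalley groups of the seven tabulated types,
conditional on the statements of S1044 (`B ∪ B n_p B` is a subgroup) and S1045 (`U = U_p X_p`).
-/

namespace Cfsg.Agent.Helper19.Poinc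

open Cfsg Cfsg.Lie Cfsg.Agent.Helper18 DoubleCoset

/-- the fundamental roots are positive and their negatives negative -/
def simpleSignOK (D : ChevalleyDatum) (hlf : ℕ) : Bool :=
  (List.range D.rank).all fun j => decide (hlf ≤ D.simple j) && decide (D.simple j < D.nroots) &&
    decide (D.neg (D.simple j) < hlf)

theorem simpleSignOK_of_mem (D : ChevalleyDatum)
    (hD : D ∈ [chevG2, chevB2, chevD4, chevF4, chevE6, chevE7, chevE8]) :
    simpleSignOK D (hlfOf D) = true := by
  simp only [List.mem_cons, List.not_mem_nil, or_false] at hD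
  rcases hD with rfl | rfl | rfl | rfl | rfl | rfl | rfl <;> decide +kernel

theorem simpleSign_spec (D : ChevalleyDatum)
    (hD : D ∈ [chevG2, chevB2, chevD4, chevF4, chevE6, chevE7, chevE8]) (i : ℕ) (hi : i < D.rank) :
    D.IsPosRoot (D.simple i) ∧ D.IsNegRoot (D.neg (D.simple i)) ∧ D.neg (D.simple i) < D.nroots := by
  have h := simpleSignOK_of_mem D hD
  unfold simpleSignOK at h
  rw [List.all_eq_true] at h
  have h1 := h i (List.mem_range.mpr hi)
  simp only [Bool.and_eq_true, decide_eq_true_eq] at h1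
  have hpos := posOK_of_mem D hD
  have hlt : D.neg (D.simple i) < D.nroots := lt_of_lt_of_le h1.2 (Nat.div_le_self _ _)
  exact ⟨(isPosRoot_iff D _ hpos _).mpr ⟨h1.1.1, h1.1.2⟩, (isNegRoot_iff D _ hpos _).mpr ⟨h1.2, hlt⟩, hlt⟩

section

variable {F : Type*} [Field F] (D : ChevalleyDatum)

/-- the subgroup `U_p` generated by the root subgroups of the positive roots other than `p = p_i` -/
def Up (F : Type*) [Field F] (i : ℕ) : Subgroup (GL D.Idx F) :=
  Subgroup.closure {g : GL D.Idx F | ∃ (s : ℕ) (t : F), D.IsPosRoot s ∧ s ≠ D.simple i ∧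
    (g : Matrix D.Idx D.Idx F) = D.x F s t}

/-- the statement of S1045 -/
def H45 (F : Type*) [Field F] : Prop := ∀ i < D.rank,
  D.rootSubgroup F (D.simple i) ⊔ D.rootSubgroup F (D.neg (D.simple i)) ≤
      Subgroup.normalizer (Up D F i : Set (GL D.Idx F)) ∧
    Up D F i ⊔ D.rootSubgroup F (D.simple i) = D.posUnipotent F

/-- the statement of S1044 -/
def H44 (F : Type*) [Field F] : Prop := ∀ i < D.rank, ∀ n : GL D.Idx F,
  (n : Matrix D.Idx D.Idx F) = D.nMat F (D.simple i) 1 →
    ∃ P : Subgroup (GL D.Idx F), (P : Set (GL D.Idx F)) =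
      (D.borelSubgroup F : Set (GL D.Idx F)) ∪
        doubleCoset n (D.borelSubgroup F : Set (GL D.Idx F)) (D.borelSubgroup F)

variable (hD : D ∈ [chevG2, chevB2, chevD4, chevF4, chevE6, chevE7, chevE8])
include hD

theorem xGL_mul (r : ℕ) (hr : r < D.nroots) (t u : F) :
    xGL D F r t * xGL D F r u = xGL D F r (t + u) := by
  have htri := triOK_of_mem D hD
  apply Units.ext
  rw [Units.val_mul, xGL_val D _ htri, xGL_val D _ htri, xGL_val D _ htri]
  exact Cfsg.Agent.S1023.result D hD r hr t u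

theorem xGL_zero' (r : ℕ) : xGL D F r 0 = 1 := by
  have htri := triOK_of_mem D hD
  apply Units.ext
  rw [xGL_val D _ htri, Units.val_one, x_zero]

theorem xGL_inv' (r : ℕ) (hr : r < D.nroots) (t : F) : (xGL D F r t)⁻¹ = xGL D F r (-t) := by
  rw [inv_eq_iff_mul_eq_one, xGL_mul D hD r hr, add_neg_cancel, xGL_zero' D hD]

theorem xGL_mem_rootSubgroup (r : ℕ) (t : F) : xGL D F r t ∈ D.rootSubgroup F r := by
  have htri := triOK_of_mem D hD
  exact Subgroup.subset_closure ⟨t, xGL_val D _ htri r t⟩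

theorem mem_rootSubgroup_iff (r : ℕ) (hr : r < D.nroots) (g : GL D.Idx F) :
    g ∈ D.rootSubgroup F r ↔ ∃ t : F, g = xGL D F r t := by
  have htri := triOK_of_mem D hD
  constructor
  · intro hg
    unfold ChevalleyDatum.rootSubgroup at hg
    induction hg using Subgroup.closure_induction with
    | mem x hx =>
      obtain ⟨t, ht⟩ := hx
      exact ⟨t, Units.ext (by rw [ht, xGL_val D _ htri])⟩
    | one => exact ⟨0, (xGL_zero' D hD r).symm⟩
    | mul a b _ _ iha ihb =>
      obtain ⟨t, rfl⟩ := iha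
      obtain ⟨u, rfl⟩ := ihb
      exact ⟨t + u, xGL_mul D hD r hr t u⟩
    | inv a _ iha =>
      obtain ⟨t, rfl⟩ := iha
      exact ⟨-t, xGL_inv' D hD r hr t⟩
  · rintro ⟨t, rfl⟩
    exact xGL_mem_rootSubgroup D hD r t

theorem rootSubgroup_le_posUnipotent (r : ℕ) (hr : D.IsPosRoot r) :
    D.rootSubgroup F r ≤ D.posUnipotent F := by
  unfold ChevalleyDatum.rootSubgroup ChevalleyDatum.posUnipotent
  apply Subgroup.closure_mono
  rintro g ⟨t, ht⟩
  exact ⟨r, t, hr, ht⟩

theorem rootSubgroup_le_negUnipotent (r : ℕ) (hr : D.IsNegRoot r) :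
    D.rootSubgroup F r ≤ D.negUnipotent F := by
  unfold ChevalleyDatum.rootSubgroup ChevalleyDatum.negUnipotent
  apply Subgroup.closure_mono
  rintro g ⟨t, ht⟩
  exact ⟨r, t, hr, ht⟩

omit hD in
theorem Up_le_posUnipotent (i : ℕ) : Up D F i ≤ D.posUnipotent F := by
  unfold Up ChevalleyDatum.posUnipotent
  apply Subgroup.closure_mono
  rintro g ⟨s, t, hs, -, ht⟩
  exact ⟨s, t, hs, ht⟩

/-- `H` normalises every root subgroup -/
theorem diagonalSubgroup_le_normalizer_rootSubgroup (r : ℕ) (hr : r < D.nroots) :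
    D.diagonalSubgroup F ≤ Subgroup.normalizer (D.rootSubgroup F r : Set (GL D.Idx F)) := by
  intro k hk
  obtain ⟨χ, hχ, -, hc⟩ := diagonalSubgroup_char D hD k hk
  obtain ⟨χ', hχ', -, hc'⟩ := diagonalSubgroup_char D hD k⁻¹ ((D.diagonalSubgroup F).inv_mem hk)
  rw [Subgroup.mem_normalizer_iff]
  intro g
  constructor
  · intro hg
    obtain ⟨t, rfl⟩ := (mem_rootSubgroup_iff D hD r hr g).mp hg
    rw [hc r hr t, mul_inv_cancel_right]
    exact xGL_mem_rootSubgroup D hD r _
  · intro hg
    obtain ⟨t, ht⟩ := (mem_rootSubgroup_iff D hD r hr _).mp hg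
    have : g = k⁻¹ * xGL D F r t * k⁻¹⁻¹ := by rw [← ht]; group
    rw [this, hc' r hr t, mul_inv_cancel_right]
    exact xGL_mem_rootSubgroup D hD r _

/-- `H` normalises `U_p` -/
theorem diagonalSubgroup_le_normalizer_Up (i : ℕ) :
    D.diagonalSubgroup F ≤ Subgroup.normalizer (Up D F i : Set (GL D.Idx F)) := by
  have htri := triOK_of_mem D hD
  intro k hk
  obtain ⟨χ, hχ, -, hc⟩ := diagonalSubgroup_char D hD k hk
  obtain ⟨χ', hχ', -, hc'⟩ := diagonalSubgroup_char D hD k⁻¹ ((D.diagonalSubgroup F).inv_mem hk)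
  unfold Up
  apply mem_normalizer_closure_of
  · rintro x ⟨s, t, hs, hne, hx⟩
    have : x = xGL D F s t := Units.ext (by rw [hx, xGL_val D _ htri])
    rw [this, hc s hs.1 t, mul_inv_cancel_right]
    exact ⟨s, _, hs, hne, xGL_val D _ htri _ _⟩
  · rintro x ⟨s, t, hs, hne, hx⟩
    have : x = xGL D F s t := Units.ext (by rw [hx, xGL_val D _ htri])
    rw [this]
    have e := hc' s hs.1 t
    have : k⁻¹ * xGL D F s t * k = xGL D F s (χ' s * t) := by
      rw [e, inv_mul_cancel_right]
    rw [this]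
    exact ⟨s, _, hs, hne, xGL_val D _ htri _ _⟩

end

section Normalizer

variable {G : Type*} [Group G]

theorem mem_normalizer_sup {A C : Subgroup G} {g : G} (hA : g ∈ Subgroup.normalizer (A : Set G))
    (hC : g ∈ Subgroup.normalizer (C : Set G)) : g ∈ Subgroup.normalizer ((A ⊔ C : Subgroup G) : Set G) := by
  have key : ∀ g : G, g ∈ Subgroup.normalizer (A : Set G) → g ∈ Subgroup.normalizer (C : Set G) →
      ∀ h ∈ A ⊔ C, g * h * g⁻¹ ∈ A ⊔ C := by
    intro g hA hC h hh
    rw [Subgroup.sup_eq_closure] at hh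
    induction hh using Subgroup.closure_induction with
    | mem x hx =>
      rcases hx with ha | hc
      · exact Subgroup.mem_sup_left ((Subgroup.mem_normalizer_iff.mp hA x).mp ha)
      · exact Subgroup.mem_sup_right ((Subgroup.mem_normalizer_iff.mp hC x).mp hc)
    | one => simp
    | mul x y _ _ ihx ihy =>
      have : g * (x * y) * g⁻¹ = (g * x * g⁻¹) * (g * y * g⁻¹) := by group
      rw [this]
      exact Subgroup.mul_mem _ ihx ihy
    | inv x _ ihx =>
      have : g * x⁻¹ * g⁻¹ = (g * x * g⁻¹)⁻¹ := by group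
      rw [this]
      exact Subgroup.inv_mem _ ihx
  rw [Subgroup.mem_normalizer_iff]
  intro h
  constructor
  · exact key g hA hC h
  · intro hh
    have := key g⁻¹ (Subgroup.inv_mem _ hA) (Subgroup.inv_mem _ hC) _ hh
    simpa [mul_assoc] using this

end Normalizer

section Step

variable {F : Type*} [Field F] (D : ChevalleyDatum)
  (hD : D ∈ [chevG2, chevB2, chevD4, chevF4, chevE6, chevE7, chevE8])
include hD

/-- `n_p` for the `i`-th fundamental root -/
noncomputable abbrev npGL (F : Type*) [Field F] (i : ℕ) : GL D.Idx F :=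
  wordGL D F (D.nWord (D.simple i) (1 : F))

omit hD in
theorem reflectRoot_simple (i : ℕ) : D.reflectRoot i (D.simple i) = D.neg (D.simple i) := by
  unfold ChevalleyDatum.reflectRoot
  simp

theorem npGL_conj_xGL (h31 : NConjHyp D F) (i : ℕ) (hi : i < D.rank) :
    ∃ η : ℤ, (η = 1 ∨ η = -1) ∧ ∀ t : F,
      npGL D F i * xGL D F (D.simple i) t * (npGL D F i)⁻¹ = xGL D F (D.neg (D.simple i)) ((η : F) * t) := by
  have hp := simple_lt D (simpleOK_of_mem D hD) i hi
  obtain ⟨η, hη, h⟩ := nGL_conj_xGL D hD h31 i (D.simple i) hi hp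
  refine ⟨η, hη, fun t => ?_⟩
  rw [h t, reflectRoot_simple, mul_inv_cancel_right]

theorem decomp_borel (h45 : H45 D F) (i : ℕ) (hi : i < D.rank) :
    ∀ b ∈ D.borelSubgroup F, ∃ y ∈ Up D F i ⊔ D.diagonalSubgroup F,
      ∃ x ∈ D.rootSubgroup F (D.simple i), b = y * x := by
  have hp := simple_lt D (simpleOK_of_mem D hD) i hi
  intro b hb
  obtain ⟨u, hu, h, hh, rfl⟩ := exists_mul_of_mem_sup (Cfsg.Agent.S1036.result D hD).1 hb
  rw [← (h45 i hi).2] at hu
  obtain ⟨u', hu', x, hx, rfl⟩ := exists_mul_of_mem_sup (le_trans le_sup_left (h45 i hi).1) hu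
  refine ⟨u' * h, Subgroup.mul_mem _ (Subgroup.mem_sup_left hu') (Subgroup.mem_sup_right hh),
    h⁻¹ * x * h, ?_, by group⟩
  have := (Subgroup.mem_normalizer_iff.mp (diagonalSubgroup_le_normalizer_rootSubgroup D hD _ hp
    ((D.diagonalSubgroup F).inv_mem hh)) x).mp hx
  simpa using this

theorem npGL_mem_normalizer (h45 : H45 D F) (i : ℕ) (hi : i < D.rank) :
    npGL D F i ∈ Subgroup.normalizer ((Up D F i ⊔ D.diagonalSubgroup F : Subgroup (GL D.Idx F)) : Set (GL D.Idx F)) := by
  have hp := simple_lt D (simpleOK_of_mem D hD) i hi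
  apply mem_normalizer_sup
  · apply (h45 i hi).1
    unfold npGL
    rw [wordGL_nWord']
    exact Subgroup.mul_mem _ (Subgroup.mul_mem _ (Subgroup.mem_sup_left (xGL_mem_rootSubgroup D hD _ _))
      (Subgroup.mem_sup_right (xGL_mem_rootSubgroup D hD _ _)))
      (Subgroup.mem_sup_left (xGL_mem_rootSubgroup D hD _ _))
  · exact nGL_mem_normalizer D hD _ hp

/-- the counting step -/
theorem chev_step [Fintype F] (h31 : NConjHyp D F) (h44 : H44 D F) (h45 : H45 D F) (i : ℕ) (hi : i < D.rank)
    (n : GL D.Idx F)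
    (hpos : ∀ t : F, n * xGL D F (D.simple i) t * n⁻¹ ∈ D.borelSubgroup F)
    (hdisj : ∀ g, g ∈ doubleCoset n (D.borelSubgroup F : Set (GL D.Idx F)) (D.borelSubgroup F) →
      g ∈ doubleCoset (n * npGL D F i) (D.borelSubgroup F : Set (GL D.Idx F)) (D.borelSubgroup F) → False) :
    (doubleCoset (n * npGL D F i) (D.borelSubgroup F : Set (GL D.Idx F)) (D.borelSubgroup F)).ncard =
      Fintype.card F * (doubleCoset n (D.borelSubgroup F : Set (GL D.Idx F)) (D.borelSubgroup F)).ncard := by
  have htri := triOK_of_mem D hD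
  have hp := simple_lt D (simpleOK_of_mem D hD) i hi
  obtain ⟨hposroot, hnegroot, hnp⟩ := simpleSign_spec D hD i hi
  rw [← Nat.card_eq_fintype_card]
  apply ncard_doubleCoset_step (D.borelSubgroup F) (Up D F i ⊔ D.diagonalSubgroup F)
    (D.rootSubgroup F (D.simple i)) n (npGL D F i) (fun t : F => xGL D F (D.simple i) t)
  · exact sup_le ((Up_le_posUnipotent D i).trans le_sup_left) le_sup_right
  · exact (rootSubgroup_le_posUnipotent D hD _ hposroot).trans le_sup_left
  · exact decomp_borel D hD h45 i hi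
  · exact fun t => xGL_mem_rootSubgroup D hD _ t
  · exact fun x hx => (mem_rootSubgroup_iff D hD _ hp x).mp hx
  · exact npGL_mem_normalizer D hD h45 i hi
  · intro t t₁ hne
    obtain ⟨η, hη, hconj⟩ := npGL_conj_xGL D hD h31 i hi
    have e1 : xGL D F (D.simple i) t * (xGL D F (D.simple i) t₁)⁻¹ = xGL D F (D.simple i) (t - t₁) := by
      rw [xGL_inv' D hD _ hp, xGL_mul D hD _ hp, sub_eq_add_neg]
    rw [e1, hconj]
    set y := xGL D F (D.neg (D.simple i)) ((η : F) * (t - t₁)) with hy
    have hηne : (η : F) * (t - t₁) ≠ 0 := by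
      apply mul_ne_zero
      · rcases hη with rfl | rfl <;> simp
      · exact sub_ne_zero.mpr hne
    have hy1 : y ≠ 1 := by
      intro h1
      have := congrArg (fun g : GL D.Idx F => (g : Matrix D.Idx D.Idx F)) h1
      simp only [hy, xGL_val D _ htri, Units.val_one] at this
      exact hηne ((Cfsg.Agent.S1024.result D hD _ hnp _).mp this)
    have hyV : y ∈ D.negUnipotent F :=
      rootSubgroup_le_negUnipotent D hD _ hnegroot (xGL_mem_rootSubgroup D hD _ _)
    obtain ⟨P, hP⟩ := h44 i hi (npGL D F i) (nWordGL_val D hD _ _)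
    have hnpP : npGL D F i ∈ P := by
      rw [← SetLike.mem_coe, hP]
      exact Or.inr (DoubleCoset.mem_doubleCoset_self _ _ _)
    have hxP : xGL D F (D.simple i) (t - t₁) ∈ P := by
      rw [← SetLike.mem_coe, hP]
      exact Or.inl ((rootSubgroup_le_posUnipotent D hD _ hposroot).trans le_sup_left
        (xGL_mem_rootSubgroup D hD _ _))
    have hyP : y ∈ P := by
      rw [hy, ← hconj]
      exact P.mul_mem (P.mul_mem hnpP hxP) (P.inv_mem hnpP)
    rw [← SetLike.mem_coe, hP] at hyP
    rcases hyP with hyB | hyD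
    · exfalso
      apply hy1
      have : y ∈ D.borelSubgroup F ⊓ D.negUnipotent F := ⟨hyB, hyV⟩
      rw [(Cfsg.Agent.S1037.result D hD).1] at this
      exact Subgroup.mem_bot.mp this
    · exact hyD
  · intro x hx
    obtain ⟨t, rfl⟩ := (mem_rootSubgroup_iff D hD _ hp x).mp hx
    exact hpos t
  · exact hdisj

end Step

end Cfsg.Agent.Helper19.Poinc
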