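import Cfsg.Agent.Helper19.Poinc.Chain

set_option autoImplicit false

/-!
Every element of the Coxeter group is reached from `1` by right multiplications with simple
reflections each of which is applied at a simple root whose image so far is positive; the
resulting induction principle.
-/

namespace Cfsg.Agent.Helper19.Poinc

open Cfsg.Agent.Helper19.Cox CoxeterSystem

section

variable {n : ℕ} (M : CoxeterMatrix (Fin n)) {T : List ℕ} {dT : ℕ} (Mx : ℕ → ℕ → ℕ)
  (hIT : checkInvol T n dT = true) (hBT : checkBraid Mx T n dT = true)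
  {R : List ℕ} {d : ℕ}
  (hI : checkInvol R n d = true) (hB : checkBraid Mx R n d = true)
  (hMx : ∀ a b (ha : a < n) (hb : b < n), M ⟨a, ha⟩ ⟨b, hb⟩ = Mx a b)

/-- a word all of whose letters are applied at positive images -/
def GoodWord (hlf : ℕ) (alphas : List ℕ) (w : List ℕ) : Prop :=
  ∀ j (hj : j < w.length), w[j] < n ∧
    posB hlf d (phi M Mx hI hB hMx (gp M (w.take j)) (alphas.getD w[j] 0)) = true

variable {hlf : ℕ} {alphas sub : List ℕ}

include hIT hBT in
theorem exists_goodWord_level {k : ℕ} (hk1 : 1 ≤ k) (hkn : k ≤ n) (lv : Level)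
    (h : checkLevel Mx T n dT k lv = true) (hst : stableOK R n d hlf sub (k - 1) = true)
    (hreps : (lv.1.all fun r => repOK R n d hlf sub alphas (k - 1) r) = true)
    (hprev : ∀ g ∈ Wsub M (k - 1), ∃ w, gp M w = g ∧ GoodWord M Mx hI hB hMx hlf alphas w) :
    ∀ g ∈ Wsub M k, ∃ w, gp M w = g ∧ GoodWord M Mx hI hB hMx hlf alphas w := by
  obtain ⟨-, hcov, -⟩ := level_decomp M Mx hIT hBT hMx hk1 hkn lv h
  intro g hg
  obtain ⟨c, hc, h', hh', rfl⟩ := hcov g hg
  obtain ⟨u, hu, hgood⟩ := hprev h' hh'
  have hrc : rp M lv.1 c = gp M lv.1[c] := by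
    unfold rp
    rw [List.getD_eq_getElem?_getD, List.getElem?_eq_getElem hc]; rfl
  have hr : repOK R n d hlf sub alphas (k - 1) lv.1[c] = true := by
    rw [List.all_eq_true] at hreps
    exact hreps _ (List.getElem_mem hc)
  refine ⟨u ++ lv.1[c], by rw [gp_append, hu, hrc], ?_⟩
  intro j hj
  by_cases hju : j < u.length
  · have e1 : (u ++ lv.1[c])[j] = u[j] := List.getElem_append_left hju
    have e2 : (u ++ lv.1[c]).take j = u.take j := by
      rw [List.take_append_of_le_length (by omega)]
    rw [e1, e2]
    exact hgood j hju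
  · have hjr : j - u.length < (lv.1[c]).length := by
      rw [List.length_append] at hj; omega
    have e1 : (u ++ lv.1[c])[j] = (lv.1[c])[j - u.length] :=
      List.getElem_append_right (by omega)
    have e2 : (u ++ lv.1[c]).take j = u ++ (lv.1[c]).take (j - u.length) := by
      rw [List.take_append]
      rw [List.take_of_length_le (by omega)]
    rw [e1, e2]
    unfold repOK at hr
    rw [List.all_eq_true] at hr
    have h1 := hr (j - u.length) (List.mem_range.mpr hjr)
    simp only [Bool.and_eq_true, decide_eq_true_eq, Bool.not_eq_eq_eq_not, Bool.not_true] at h1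
    obtain ⟨⟨hlt, hpos⟩, hns⟩ := h1
    have hget : (lv.1[c]).getD (j - u.length) 0 = (lv.1[c])[j - u.length] := by
      rw [List.getD_eq_getElem?_getD, List.getElem?_eq_getElem hjr]; rfl
    rw [hget] at hlt hpos hns
    refine ⟨hlt, ?_⟩
    rw [gp_append, hu, map_mul, Equiv.Perm.mul_apply, phi_gp]
    exact (stable_of_mem M Mx hI hB hMx hst h' hh' _ hpos hns).1

include hIT hBT in
theorem exists_goodWord_levels : ∀ (levels : List Level) (k : ℕ), k + levels.length ≤ n →
    checkLevels Mx T n dT k levels = true → chainOK R n d hlf sub alphas k levels = true →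
    (∀ g ∈ Wsub M k, ∃ w, gp M w = g ∧ GoodWord M Mx hI hB hMx hlf alphas w) →
    ∀ g ∈ Wsub M (k + levels.length), ∃ w, gp M w = g ∧ GoodWord M Mx hI hB hMx hlf alphas w := by
  intro levels
  induction levels with
  | nil =>
    intro k _ _ _ hprev
    simpa using hprev
  | cons lv rest ih =>
    intro k hkn hchk hch hprev
    rw [checkLevels, Bool.and_eq_true] at hchk
    rw [chainOK, Bool.and_eq_true, Bool.and_eq_true] at hch
    rw [List.length_cons] at hkn
    have h1 := exists_goodWord_level M Mx hIT hBT hI hB hMx (k := k + 1) (by omega) (by omega) lv hchk.1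
      (by rw [Nat.add_sub_cancel]; exact hch.1.1) (by rw [Nat.add_sub_cancel]; exact hch.1.2)
      (by rw [Nat.add_sub_cancel]; exact hprev)
    have h2 := ih (k + 1) (by omega) hchk.2 hch.2 h1
    have e : k + (lv :: rest).length = k + 1 + rest.length := by rw [List.length_cons]; omega
    rw [e]
    exact h2

include hIT hBT in
theorem exists_goodWord (levels : List Level) (hlen : levels.length = n)
    (hchk : checkLevels Mx T n dT 0 levels = true)
    (hch : chainOK R n d hlf sub alphas 0 levels = true) (g : M.Group) :
    ∃ w, gp M w = g ∧ GoodWord M Mx hI hB hMx hlf alphas w := by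
  have h := exists_goodWord_levels M Mx hIT hBT hI hB hMx levels 0 (by omega) hchk hch (by
    intro g hg
    rw [Wsub_zero, Subgroup.mem_bot] at hg
    subst hg
    exact ⟨[], gp_nil M, fun j hj => absurd hj (by simp)⟩)
  rw [Nat.zero_add, hlen, Wsub_top] at h
  exact h g (Subgroup.mem_top g)

include hIT hBT in
/-- induction along positive steps -/
theorem good_induction (levels : List Level) (hlen : levels.length = n)
    (hchk : checkLevels Mx T n dT 0 levels = true)
    (hch : chainOK R n d hlf sub alphas 0 levels = true) (P : M.Group → Prop) (h1 : P 1)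
    (hs : ∀ (w : M.Group) (i : ℕ), i < n →
      posB hlf d (phi M Mx hI hB hMx w (alphas.getD i 0)) = true → P w → P (w * sg M i))
    (g : M.Group) : P g := by
  obtain ⟨w, rfl, hgood⟩ := exists_goodWord M Mx hIT hBT hI hB hMx levels hlen hchk hch g
  have key : ∀ j ≤ w.length, P (gp M (w.take j)) := by
    intro j
    induction j with
    | zero => intro _; rw [List.take_zero, gp_nil]; exact h1
    | succ j ih =>
      intro hj
      have hjl : j < w.length := hj
      rw [List.take_succ_eq_append_getElem hjl, gp_append, gp_singleton]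
      exact hs _ _ (hgood j hjl).1 (hgood j hjl).2 (ih (by omega))
  have := key w.length le_rfl
  rwa [List.take_length] at this

end

end Cfsg.Agent.Helper19.Poinc
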