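import Cfsg.Agent.Helper19.Poinc.ChevStep
import Cfsg.Agent.Helper19.Poinc.Good
import Cfsg.Agent.S0308
import Cfsg.Agent.S0309
import Cfsg.Agent.S1040
import Cfsg.Agent.S1043

set_option autoImplicit false
set_option maxRecDepth 100000

/-!
The order of a Chevalley group of one of the seven tabulated types over a finite field, by
counting the double cosets `B n_w B` along the parabolic chain of the Weyl group; conditional on
the statements of S1042, S1044, S1045.
-/

namespace Cfsg.Agent.Helper19.Poinc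

open Cfsg Cfsg.Lie Cfsg.Agent.Helper18 Cfsg.Agent.Helper19.Cox DoubleCoset

/-- the certificates for one type -/
structure Cert (D : ChevalleyDatum) where
  M : CoxeterMatrix (Fin D.rank)
  Mx : ℕ → ℕ → ℕ
  hMx : ∀ a b (ha : a < D.rank) (hb : b < D.rank), M ⟨a, ha⟩ ⟨b, hb⟩ = Mx a b
  tabs : List ℕ
  ht : tabsOK D tabs = true
  hbr : braidRootsOK D tabs Mx = true
  hI : checkInvol tabs D.rank D.nroots = true
  hB : checkBraid Mx tabs D.rank D.nroots = true
  hinj : Function.Injective (phi M Mx hI hB hMx)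
  words : List (List ℕ × ℕ)
  hreach : reachOK D tabs words = true
  T : List ℕ
  dT : ℕ
  hIT : checkInvol T D.rank dT = true
  hBT : checkBraid Mx T D.rank dT = true
  levels : List Level
  hlen : levels.length = D.rank
  hchk : checkLevels Mx T D.rank dT 0 levels = true
  sub : List ℕ
  alphas : List ℕ
  hch : chainOK tabs D.rank D.nroots (hlfOf D) sub alphas 0 levels = true
  halpha : ∀ i < D.rank, alphas.getD i 0 = D.simple i
  hfin : Finite M.Group

/-- the statement of S1042 -/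
def H42 (D : ChevalleyDatum) (F : Type*) [Field F] : Prop :=
  ∃ P : Cfsg.BNPair ↥(D.group F),
    P.B = (D.borelSubgroup F).subgroupOf (D.group F) ∧ P.N = (D.monomialSubgroup F).subgroupOf (D.group F) ∧
    P.S = {n : ↥(D.group F) | ∃ i < D.rank, ((n : GL D.Idx F) : Matrix D.Idx D.Idx F) = D.nMat F (D.simple i) 1}

theorem exists_word {n : ℕ} (M : CoxeterMatrix (Fin n)) (g : M.Group) :
    ∃ w : List ℕ, (∀ i ∈ w, i < n) ∧ gp M w = g := by
  obtain ⟨ω, rfl⟩ := M.toCoxeterSystem.wordProd_surjective g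
  refine ⟨ω.map Fin.val, ?_, ?_⟩
  · intro i hi
    obtain ⟨j, -, rfl⟩ := List.mem_map.mp hi
    exact j.2
  · induction ω with
    | nil => simp
    | cons i ω ih =>
      rw [CoxeterSystem.wordProd_cons, ← ih, List.map_cons, gp_cons, sg_of_lt M i.2]

section Main

variable {F : Type*} [Field F] (D : ChevalleyDatum)
  (hD : D ∈ [chevG2, chevB2, chevD4, chevF4, chevE6, chevE7, chevE8]) (C : Cert D)
  (h31 : NConjHyp D F) [hn : (HN D F).Normal]
include hD

/-- the isomorphism `W → N / H` of helper18 -/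
noncomputable abbrev psiC : C.M.Group →* ↥(D.monomialSubgroup F) ⧸ HN D F :=
  psi D hD C.M C.Mx C.hMx C.tabs C.ht C.hbr h31

/-- the double coset `B n_w B` -/
def DCgl (w : C.M.Group) : Set (GL D.Idx F) :=
  {g | ∃ n : ↥(D.monomialSubgroup F), (QuotientGroup.mk n : ↥(D.monomialSubgroup F) ⧸ HN D F) = psiC D hD C h31 w ∧
    g ∈ doubleCoset (n : GL D.Idx F) (D.borelSubgroup F : Set (GL D.Idx F)) (D.borelSubgroup F)}

theorem DCgl_eq (w : C.M.Group) (n : ↥(D.monomialSubgroup F))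
    (hnw : (QuotientGroup.mk n : ↥(D.monomialSubgroup F) ⧸ HN D F) = psiC D hD C h31 w) :
    DCgl D hD C h31 w = doubleCoset (n : GL D.Idx F) (D.borelSubgroup F : Set (GL D.Idx F)) (D.borelSubgroup F) := by
  ext g
  constructor
  · rintro ⟨n', hn', hg⟩
    have h1 : n⁻¹ * n' ∈ HN D F := QuotientGroup.eq.mp (hnw.trans hn'.symm)
    rw [Subgroup.mem_subgroupOf] at h1
    have h2 : (n' : GL D.Idx F) ∈ doubleCoset (n : GL D.Idx F) (D.borelSubgroup F : Set (GL D.Idx F)) (D.borelSubgroup F) := by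
      rw [mem_doubleCoset]
      refine ⟨1, Subgroup.one_mem _, ((n⁻¹ * n' : ↥(D.monomialSubgroup F)) : GL D.Idx F),
        Subgroup.mem_sup_right h1, ?_⟩
      simp
    rw [← doubleCoset_eq_of_mem h2]
    exact hg
  · intro hg
    exact ⟨n, hnw, hg⟩

theorem exists_rep (w : C.M.Group) : ∃ n : ↥(D.monomialSubgroup F),
    (QuotientGroup.mk n : ↥(D.monomialSubgroup F) ⧸ HN D F) = psiC D hD C h31 w :=
  QuotientGroup.mk_surjective _

theorem DCgl_subset (w : C.M.Group) : DCgl D hD C h31 w ⊆ (D.group F : Set (GL D.Idx F)) := by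
  obtain ⟨hBG, hNG, -⟩ := Cfsg.Agent.S1043.result (F := F) D hD
  rintro g ⟨n, -, hg⟩
  obtain ⟨b, hb, b', hb', rfl⟩ := mem_doubleCoset.mp hg
  exact Subgroup.mul_mem _ (Subgroup.mul_mem _ (hBG hb) (hNG n.2)) (hBG hb')

/-- conjugation by a representative of `w` maps `X_s` to `X_{w s}` -/
theorem conj_rep (w : C.M.Group) (n : ↥(D.monomialSubgroup F))
    (hnw : (QuotientGroup.mk n : ↥(D.monomialSubgroup F) ⧸ HN D F) = psiC D hD C h31 w)
    (s : ℕ) (hs : s < D.nroots) (t : F) :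
    phi C.M C.Mx C.hI C.hB C.hMx w s < D.nroots ∧
    ∃ t' : F, (n : GL D.Idx F) * xGL D F s t * (n : GL D.Idx F)⁻¹ = xGL D F (phi C.M C.Mx C.hI C.hB C.hMx w s) t' := by
  obtain ⟨word, hw, rfl⟩ := exists_word C.M w
  have h1 := psi_gp D hD C.M C.Mx C.hMx C.tabs C.ht C.hbr h31 word hw
  unfold psiC at hnw
  rw [h1] at hnw
  have h2 : (⟨nWordsGL D F word, nWordsGL_mem D hD word hw⟩ : ↥(D.monomialSubgroup F))⁻¹ * n ∈ HN D F :=
    QuotientGroup.eq.mp hnw.symm
  rw [Subgroup.mem_subgroupOf] at h2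
  set h : GL D.Idx F := (nWordsGL D F word)⁻¹ * (n : GL D.Idx F) with hh
  have h2' : h ∈ D.diagonalSubgroup F := by simpa using h2
  have hn_eq : (n : GL D.Idx F) = nWordsGL D F word * h := by rw [hh]; group
  obtain ⟨χ, -, -, hc⟩ := diagonalSubgroup_char D hD h h2'
  obtain ⟨hlt, η, -, hconj⟩ := nWordsGL_conj_xGL D hD h31 (reflectRoot_lt D hD) word hw s hs
  obtain ⟨e1, e2⟩ := actW_eq_rho D C.tabs C.ht word hw s hs
  have e3 : phi C.M C.Mx C.hI C.hB C.hMx (gp C.M word) s = rho D word s := by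
    rw [phi_gp, e1]
  rw [e3]
  refine ⟨hlt, (η : F) * (χ s * t), ?_⟩
  rw [hn_eq]
  have e4 : h * xGL D F s t = xGL D F s (χ s * t) * h := hc s hs t
  have e5 := hconj (χ s * t)
  calc nWordsGL D F word * h * xGL D F s t * (nWordsGL D F word * h)⁻¹
      = nWordsGL D F word * (h * xGL D F s t) * h⁻¹ * (nWordsGL D F word)⁻¹ := by group
    _ = (nWordsGL D F word * xGL D F s (χ s * t)) * (nWordsGL D F word)⁻¹ := by rw [e4]; group
    _ = xGL D F (rho D word s) ((η : F) * (χ s * t)) := by rw [e5]; group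

/-- the pieces inside the group -/
def DC (w : C.M.Group) : Set ↥(D.group F) := Subtype.val ⁻¹' DCgl D hD C h31 w

theorem ncard_DC (w : C.M.Group) : (DC D hD C h31 w).ncard = (DCgl D hD C h31 w).ncard := by
  unfold DC
  apply Set.ncard_preimage_of_injective_subset_range Subtype.val_injective
  intro g hg
  exact ⟨⟨g, DCgl_subset D hD C h31 w hg⟩, rfl⟩

omit hn in
theorem sg_ne_one (i : ℕ) (hi : i < D.rank) : sg C.M i ≠ 1 := by
  intro h
  have hp := simple_lt D (simpleOK_of_mem D hD) i hi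
  have h1 : phi C.M C.Mx C.hI C.hB C.hMx (sg C.M i) (D.simple i) = D.simple i := by
    rw [h, map_one, Equiv.Perm.one_apply]
  have h2 := (actW_eq_rho D C.tabs C.ht [i] (by simpa using hi) (D.simple i) hp).1
  rw [← gp_singleton, phi_gp, h2] at h1
  have h3 : rho D [i] (D.simple i) = D.neg (D.simple i) := reflectRoot_simple D i
  rw [h3] at h1
  exact Cfsg.Agent.Helper18.neg_ne_self D hD _ hp h1

/-- distinct elements of `W` give disjoint double cosets -/
theorem DCgl_disjoint (h42 : H42 D F) (w w' : C.M.Group) (g : GL D.Idx F)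
    (hg : g ∈ DCgl D hD C h31 w) (hg' : g ∈ DCgl D hD C h31 w') : w = w' := by
  obtain ⟨hBG, hNG, -⟩ := Cfsg.Agent.S1043.result (F := F) D hD
  obtain ⟨P, hPB, hPN, -⟩ := h42
  obtain ⟨n, hn, hgn⟩ := hg
  obtain ⟨n', hn', hgn'⟩ := hg'
  obtain ⟨b₁, hb₁, b₂, hb₂, e1⟩ := mem_doubleCoset.mp hgn
  obtain ⟨b₃, hb₃, b₄, hb₄, e2⟩ := mem_doubleCoset.mp hgn'
  -- work in the group
  let nG : ↥(D.group F) := ⟨n, hNG n.2⟩
  let nG' : ↥(D.group F) := ⟨n', hNG n'.2⟩
  have hnG : nG ∈ P.N := by rw [hPN, Subgroup.mem_subgroupOf]; exact n.2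
  have hnG' : nG' ∈ P.N := by rw [hPN, Subgroup.mem_subgroupOf]; exact n'.2
  have hmem : nG' ∈ doubleCoset nG (P.B : Set ↥(D.group F)) P.B := by
    rw [mem_doubleCoset]
    refine ⟨⟨b₃⁻¹ * b₁, hBG (Subgroup.mul_mem _ (Subgroup.inv_mem _ hb₃) hb₁)⟩, ?_,
      ⟨b₂ * b₄⁻¹, hBG (Subgroup.mul_mem _ hb₂ (Subgroup.inv_mem _ hb₄))⟩, ?_, ?_⟩
    · rw [SetLike.mem_coe, hPB, Subgroup.mem_subgroupOf]
      exact Subgroup.mul_mem _ (Subgroup.inv_mem _ hb₃) hb₁
    · rw [SetLike.mem_coe, hPB, Subgroup.mem_subgroupOf]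
      exact Subgroup.mul_mem _ hb₂ (Subgroup.inv_mem _ hb₄)
    · apply Subtype.ext
      simp only [Subgroup.coe_mul, nG, nG']
      have : (n' : GL D.Idx F) = b₃⁻¹ * g * b₄⁻¹ := by rw [e2]; group
      rw [this, e1]; group
  have heq := doubleCoset_eq_of_mem hmem
  have h1 : nG⁻¹ * nG' ∈ P.B := (Cfsg.Agent.S0309.result P hnG hnG').mp heq.symm
  rw [hPB, Subgroup.mem_subgroupOf] at h1
  have h2 : ((n⁻¹ * n' : ↥(D.monomialSubgroup F)) : GL D.Idx F) ∈ D.borelSubgroup F ⊓ D.monomialSubgroup F :=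
    ⟨by simpa [nG, nG'] using h1, (n⁻¹ * n').2⟩
  rw [(Cfsg.Agent.S1040.result D hD).2] at h2
  have h3 : (QuotientGroup.mk n : ↥(D.monomialSubgroup F) ⧸ HN D F) = QuotientGroup.mk n' :=
    QuotientGroup.eq.mpr (Subgroup.mem_subgroupOf.mpr h2)
  have h4 : psiC D hD C h31 w = psiC D hD C h31 w' := by rw [← hn, ← hn', h3]
  exact psi_injective D hD C.M C.Mx C.hMx C.tabs C.ht C.hbr h31 C.hI C.hB C.hinj h4

/-- every element of the group lies in a double coset -/
theorem DC_cover (h42 : H42 D F) (g : ↥(D.group F)) : ∃ w, g ∈ DC D hD C h31 w := by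
  obtain ⟨P, hPB, hPN, -⟩ := h42
  obtain ⟨n, hnN, hg⟩ := Cfsg.Agent.S0308.result P g
  rw [hPN, Subgroup.mem_subgroupOf] at hnN
  obtain ⟨b, hb, b', hb', rfl⟩ := mem_doubleCoset.mp hg
  rw [SetLike.mem_coe, hPB, Subgroup.mem_subgroupOf] at hb hb'
  obtain ⟨w, hw⟩ := psi_surjective D hD C.M C.Mx C.hMx C.tabs C.ht C.hbr h31 C.words C.hreach
    (QuotientGroup.mk (⟨(n : GL D.Idx F), hnN⟩ : ↥(D.monomialSubgroup F)))
  refine ⟨w, ⟨(n : GL D.Idx F), hnN⟩, hw.symm, ?_⟩
  rw [mem_doubleCoset]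
  exact ⟨b, hb, b', hb', by simp⟩

/-- the counting step for the pieces -/
theorem DC_step [Fintype F] (h42 : H42 D F) (h44 : H44 D F) (h45 : H45 D F) (w : C.M.Group) (i : ℕ)
    (hi : i < D.rank)
    (hgood : posB (hlfOf D) D.nroots (phi C.M C.Mx C.hI C.hB C.hMx w (C.alphas.getD i 0)) = true) :
    (DC D hD C h31 (w * sg C.M i)).ncard = Fintype.card F * (DC D hD C h31 w).ncard := by
  have hp := simple_lt D (simpleOK_of_mem D hD) i hi
  have hpos := posOK_of_mem D hD
  rw [ncard_DC, ncard_DC]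
  obtain ⟨n, hnw⟩ := exists_rep D hD C h31 w
  have hnw' : (QuotientGroup.mk (n * nN D F (D.simple i)) : ↥(D.monomialSubgroup F) ⧸ HN D F) =
      psiC D hD C h31 (w * sg C.M i) := by
    rw [QuotientGroup.mk_mul, hnw, map_mul]
    congr 1
    unfold psiC
    rw [psi_sg D hD C.M C.Mx C.hMx C.tabs C.ht C.hbr h31 i hi]
    rfl
  rw [DCgl_eq D hD C h31 w n hnw, DCgl_eq D hD C h31 _ _ hnw', Subgroup.coe_mul, nN_val D hD _ hp]
  apply chev_step D hD h31 h44 h45 i hi
  · intro t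
    obtain ⟨hlt, t', e⟩ := conj_rep D hD C h31 w n hnw (D.simple i) hp t
    rw [e]
    rw [C.halpha i hi] at hgood
    unfold posB at hgood
    simp only [Bool.and_eq_true, decide_eq_true_eq] at hgood
    have hroot : D.IsPosRoot (phi C.M C.Mx C.hI C.hB C.hMx w (D.simple i)) :=
      (isPosRoot_iff D _ hpos _).mpr hgood
    exact (rootSubgroup_le_posUnipotent D hD _ hroot).trans le_sup_left (xGL_mem_rootSubgroup D hD _ _)
  · intro g hg hg'
    have h1 : g ∈ DCgl D hD C h31 w := by rw [DCgl_eq D hD C h31 w n hnw]; exact hg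
    have h2 : g ∈ DCgl D hD C h31 (w * sg C.M i) := by
      rw [DCgl_eq D hD C h31 _ _ hnw', Subgroup.coe_mul, nN_val D hD _ hp]; exact hg'
    have h3 := DCgl_disjoint D hD C h31 h42 _ _ g h1 h2
    exact sg_ne_one D hD C i hi (by
      have : w * sg C.M i = w * 1 := by rw [mul_one]; exact h3.symm
      exact mul_left_cancel this)

omit hn in
theorem card_borel [Finite F] :
    Nat.card (D.borelSubgroup F) = Nat.card (D.posUnipotent F) * Nat.card (D.diagonalSubgroup F) := by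
  obtain ⟨hnorm, hint⟩ := Cfsg.Agent.S1036.result (F := F) D hD
  let f : D.posUnipotent F × D.diagonalSubgroup F → D.borelSubgroup F := fun p =>
    ⟨(p.1 : GL D.Idx F) * p.2, Subgroup.mul_mem _ (Subgroup.mem_sup_left p.1.2) (Subgroup.mem_sup_right p.2.2)⟩
  have hf : Function.Bijective f := by
    constructor
    · rintro ⟨⟨u, hu⟩, ⟨h, hh⟩⟩ ⟨⟨u', hu'⟩, ⟨h', hh'⟩⟩ he
      have he' : u * h = u' * h' := congrArg Subtype.val he
      have h1 : u'⁻¹ * u = h' * h⁻¹ := by
        have : u = u' * h' * h⁻¹ := by rw [← he']; group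
        rw [this]; group
      have h2 : u'⁻¹ * u ∈ D.posUnipotent F ⊓ D.diagonalSubgroup F :=
        ⟨Subgroup.mul_mem _ (Subgroup.inv_mem _ hu') hu, by
          rw [h1]; exact Subgroup.mul_mem _ hh' (Subgroup.inv_mem _ hh)⟩
      rw [hint, Subgroup.mem_bot] at h2
      have hu_eq : u = u' := by
        have := congrArg (fun x => u' * x) h2
        simpa using this
      subst hu_eq
      have hh_eq : h = h' := mul_left_cancel he'
      subst hh_eq
      rfl
    · rintro ⟨b, hb⟩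
      obtain ⟨u, hu, h, hh, rfl⟩ := exists_mul_of_mem_sup hnorm hb
      exact ⟨(⟨u, hu⟩, ⟨h, hh⟩), rfl⟩
  rw [← Nat.card_prod]
  exact (Nat.card_congr (Equiv.ofBijective f hf)).symm

theorem DCgl_one : DCgl D hD C h31 1 = (D.borelSubgroup F : Set (GL D.Idx F)) := by
  have h1 : (QuotientGroup.mk (1 : ↥(D.monomialSubgroup F)) : ↥(D.monomialSubgroup F) ⧸ HN D F) =
      psiC D hD C h31 1 := by rw [map_one]; rfl
  rw [DCgl_eq D hD C h31 1 1 h1]
  ext g
  rw [mem_doubleCoset]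
  constructor
  · rintro ⟨b, hb, b', hb', rfl⟩
    simpa using Subgroup.mul_mem _ hb hb'
  · intro hg
    exact ⟨g, hg, 1, Subgroup.one_mem _, by simp⟩

include h31 in
/-- the order of the group -/
theorem card_group [Fintype F] (h42 : H42 D F) (h44 : H44 D F) (h45 : H45 D F) :
    Nat.card ↥(D.group F) =
      (C.levels.map fun lv => (lv.1.map fun r => Fintype.card F ^ r.length).sum).prod *
        (Nat.card (D.posUnipotent F) * Nat.card (D.diagonalSubgroup F)) := by
  haveI := C.hfin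
  have h := card_eq_of_pieces C.M C.Mx C.hIT C.hBT C.hI C.hB C.hMx (DC D hD C h31) (Fintype.card F)
    (hlf := hlfOf D) (alphas := C.alphas) (sub := C.sub)
    (fun w i hi hgood => DC_step D hD C h31 h42 h44 h45 w i hi hgood) C.levels C.hlen C.hchk C.hch
    (DC_cover D hD C h31 h42)
    (fun w w' g hg hg' => DCgl_disjoint D hD C h31 h42 w w' g hg hg')
  rw [h, ncard_DC, DCgl_one, ← card_borel D hD]
  rfl

end Main

end Cfsg.Agent.Helper19.Poinc
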