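import Cfsg.Agent.Helper19.Poinc.Engine

set_option autoImplicit false

/-!
The decomposition of a Coxeter group along its parabolic chain (from the verified coset tables),
and the resulting product formula for the total size of the pieces `DC w`.
-/

namespace Cfsg.Agent.Helper19.Poinc

open Cfsg.Agent.Helper19.Cox CoxeterSystem

section Decomp

variable {n : ℕ} (M : CoxeterMatrix (Fin n)) {T : List ℕ} {dT : ℕ} (Mx : ℕ → ℕ → ℕ)
  (hIT : checkInvol T n dT = true) (hBT : checkBraid Mx T n dT = true)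
  (hMx : ∀ a b (ha : a < n) (hb : b < n), M ⟨a, ha⟩ ⟨b, hb⟩ = Mx a b)

include hIT hBT hMx in
theorem level_decomp {k : ℕ} (hk1 : 1 ≤ k) (hkn : k ≤ n) (lv : Level)
    (h : checkLevel Mx T n dT k lv = true) :
    (∀ c, rp M lv.1 c ∈ Wsub M k) ∧
    (∀ g ∈ Wsub M k, ∃ c < lv.1.length, ∃ h ∈ Wsub M (k - 1), g = h * rp M lv.1 c) ∧
    (∀ {g g' : M.Group}, g ∈ Wsub M (k - 1) → g' ∈ Wsub M (k - 1) → ∀ {c c' : ℕ},
      c < lv.1.length → c' < lv.1.length → g * rp M lv.1 c = g' * rp M lv.1 c' → c = c' ∧ g = g') := by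
  unfold checkLevel at h
  simp only [Bool.and_eq_true, decide_eq_true_eq] at h
  obtain ⟨⟨⟨h0, hnil⟩, hcomp⟩, hlow⟩ := h
  have hH : ∀ i, i + 1 < k → sg M i ∈ Wsub M (k - 1) := fun i hi => sg_mem_Wsub M (by omega)
  have htab := table_sound M (Wsub M (k - 1)) lv.1 Mx k hkn hMx hH lv.2.1 lv.1.length hcomp
  have hrep0 : rp M lv.1 0 = 1 := by unfold rp; rw [hnil, gp_nil]
  have hcov := cover M (Wsub M (k - 1)) k lv.1.length (rp M lv.1) h0 hrep0 htab
  refine ⟨fun c => checkLower_mem M hlow c, hcov, ?_⟩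
  intro g g' hg hg' c c' hc hc' he
  exact lower_inj M Mx hIT hBT hMx hlow hg hg' hc hc' he

end Decomp

section Sum

variable {n : ℕ} (M : CoxeterMatrix (Fin n)) {T : List ℕ} {dT : ℕ} (Mx : ℕ → ℕ → ℕ)
  (hIT : checkInvol T n dT = true) (hBT : checkBraid Mx T n dT = true)
  {R : List ℕ} {d : ℕ}
  (hI : checkInvol R n d = true) (hB : checkBraid Mx R n d = true)
  (hMx : ∀ a b (ha : a < n) (hb : b < n), M ⟨a, ha⟩ ⟨b, hb⟩ = Mx a b)
  {α : Type*} (DC : M.Group → Set α) (q : ℕ) {hlf : ℕ} {alphas sub : List ℕ}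
  (hstep : ∀ (w : M.Group) (i : ℕ), i < n →
    posB hlf d (phi M Mx hI hB hMx w (alphas.getD i 0)) = true →
      (DC (w * sg M i)).ncard = q * (DC w).ncard)

/-- the total size of the pieces over a subgroup -/
noncomputable def tot (K : Subgroup M.Group) : ℕ := ∑ᶠ g : K, (DC (g : M.Group)).ncard

include hIT hBT hstep in
theorem tot_level {k : ℕ} (hk1 : 1 ≤ k) (hkn : k ≤ n) (lv : Level)
    (h : checkLevel Mx T n dT k lv = true) (hst : stableOK R n d hlf sub (k - 1) = true)
    (hreps : (lv.1.all fun r => repOK R n d hlf sub alphas (k - 1) r) = true)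
    [Finite M.Group] :
    tot M DC (Wsub M k) = (lv.1.map fun r => q ^ r.length).sum * tot M DC (Wsub M (k - 1)) := by
  obtain ⟨hmem, hcov, hinj⟩ := level_decomp M Mx hIT hBT hMx hk1 hkn lv h
  have hle : Wsub M (k - 1) ≤ Wsub M k := Wsub_mono M (by omega)
  let f : Fin lv.1.length × Wsub M (k - 1) → Wsub M k := fun p =>
    ⟨(p.2 : M.Group) * rp M lv.1 p.1, Subgroup.mul_mem _ (hle p.2.2) (hmem _)⟩
  have hf : Function.Bijective f := by
    constructor
    · rintro ⟨c, g⟩ ⟨c', g'⟩ he
      have he' : (g : M.Group) * rp M lv.1 c = (g' : M.Group) * rp M lv.1 c' :=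
        congrArg Subtype.val he
      obtain ⟨h1, h2⟩ := hinj g.2 g'.2 c.2 c'.2 he'
      exact Prod.ext (Fin.ext h1) (Subtype.ext h2)
    · rintro ⟨g, hg⟩
      obtain ⟨c, hc, h', hh', rfl⟩ := hcov g hg
      exact ⟨(⟨c, hc⟩, ⟨h', hh'⟩), rfl⟩
  letI : Fintype (Wsub M k) := Fintype.ofFinite _
  letI : Fintype (Wsub M (k - 1)) := Fintype.ofFinite _
  unfold tot
  rw [finsum_eq_sum_of_fintype, finsum_eq_sum_of_fintype]
  rw [← Fintype.sum_equiv (Equiv.ofBijective f hf)
    (fun p => (DC ((p.2 : M.Group) * rp M lv.1 p.1)).ncard) _ (fun p => rfl)]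
  rw [Fintype.sum_prod_type]
  have hinner : ∀ c : Fin lv.1.length, ∑ g : Wsub M (k - 1), (DC ((g : M.Group) * rp M lv.1 c)).ncard =
      q ^ (lv.1[c.1]).length * ∑ g : Wsub M (k - 1), (DC (g : M.Group)).ncard := by
    intro c
    rw [Finset.mul_sum]
    apply Finset.sum_congr rfl
    intro g _
    have hrc : rp M lv.1 c = gp M lv.1[c.1] := by
      unfold rp
      rw [List.getD_eq_getElem?_getD, List.getElem?_eq_getElem c.2]; rfl
    rw [hrc]
    apply ncard_mul_gp M Mx hI hB hMx DC q hstep hst g.2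
    rw [List.all_eq_true] at hreps
    exact hreps _ (List.getElem_mem c.2)
  simp_rw [hinner]
  rw [← Finset.sum_mul, Fin.sum_univ_fun_getElem lv.1 (fun r => q ^ r.length)]

/-- the checks on the root tables along the chain: level `k + 1` uses the `k`-th subsystem -/
def chainOK (R : List ℕ) (n d hlf : ℕ) (sub alphas : List ℕ) : ℕ → List Level → Bool
  | _, [] => true
  | k, lv :: rest => stableOK R n d hlf sub k &&
      (lv.1.all fun r => repOK R n d hlf sub alphas k r) && chainOK R n d hlf sub alphas (k + 1) rest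

include hIT hBT hstep in
theorem tot_levels [Finite M.Group] : ∀ (levels : List Level) (k : ℕ), k + levels.length ≤ n →
    checkLevels Mx T n dT k levels = true → chainOK R n d hlf sub alphas k levels = true →
    tot M DC (Wsub M (k + levels.length)) =
      (levels.map fun lv => (lv.1.map fun r => q ^ r.length).sum).prod * tot M DC (Wsub M k) := by
  intro levels
  induction levels with
  | nil =>
    intro k _ _ _
    simp
  | cons lv rest ih =>
    intro k hkn hchk hch
    rw [checkLevels, Bool.and_eq_true] at hchk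
    rw [chainOK, Bool.and_eq_true, Bool.and_eq_true] at hch
    rw [List.length_cons] at hkn
    have h1 := tot_level M Mx hIT hBT hI hB hMx DC q hstep (k := k + 1) (by omega) (by omega) lv hchk.1
      (by rw [Nat.add_sub_cancel]; exact hch.1.1) (by rw [Nat.add_sub_cancel]; exact hch.1.2)
    rw [Nat.add_sub_cancel] at h1
    have h2 := ih (k + 1) (by omega) hchk.2 hch.2
    have e : k + (lv :: rest).length = k + 1 + rest.length := by rw [List.length_cons]; omega
    rw [e, h2, h1, List.map_cons, List.prod_cons]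
    ring

theorem tot_bot : tot M DC (Wsub M 0) = (DC 1).ncard := by
  unfold tot
  rw [Wsub_zero]
  haveI : Unique (⊥ : Subgroup M.Group) := inferInstance
  rw [finsum_unique]
  have : ((default : (⊥ : Subgroup M.Group)) : M.Group) = 1 := Subgroup.mem_bot.mp (default : (⊥ : Subgroup M.Group)).2
  rw [this]

theorem tot_top [Finite α] [Finite M.Group] (hcover : ∀ a : α, ∃ w, a ∈ DC w)
    (hdisj : ∀ w w' a, a ∈ DC w → a ∈ DC w' → w = w') :
    tot M DC (Wsub M n) = Nat.card α := by
  classical
  letI : Fintype M.Group := Fintype.ofFinite _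
  let e : α ≃ Σ w : M.Group, DC w :=
    { toFun := fun a => ⟨(hcover a).choose, a, (hcover a).choose_spec⟩
      invFun := fun p => p.2.1
      left_inv := fun a => rfl
      right_inv := by
        rintro ⟨w, a, ha⟩
        have hw : (hcover a).choose = w := hdisj _ _ a (hcover a).choose_spec ha
        subst hw
        rfl }
  rw [Nat.card_congr e, Nat.card_sigma]
  unfold tot
  rw [Wsub_top]
  rw [← finsum_comp_equiv (Subgroup.topEquiv (G := M.Group)).toEquiv.symm, finsum_eq_sum_of_fintype]
  apply Finset.sum_congr rfl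
  intro w _
  rw [_root_.Nat.card_coe_set_eq]
  rfl

include hIT hBT hstep in
/-- the counting theorem -/
theorem card_eq_of_pieces [Finite α] [Finite M.Group] (levels : List Level) (hlen : levels.length = n)
    (hchk : checkLevels Mx T n dT 0 levels = true)
    (hch : chainOK R n d hlf sub alphas 0 levels = true)
    (hcover : ∀ a : α, ∃ w, a ∈ DC w)
    (hdisj : ∀ w w' a, a ∈ DC w → a ∈ DC w' → w = w') :
    Nat.card α =
      (levels.map fun lv => (lv.1.map fun r => q ^ r.length).sum).prod * (DC 1).ncard := by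
  have h := tot_levels M Mx hIT hBT hI hB hMx DC q hstep levels 0 (by omega) hchk hch
  rw [Nat.zero_add, hlen, tot_top M DC hcover hdisj, tot_bot] at h
  exact h

end Sum

end Cfsg.Agent.Helper19.Poinc
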