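import Cfsg.Agent.Helper19.Cox.Main

set_option autoImplicit false

/-!
Counting a finite group that is a disjoint union of pieces `DC w` indexed by a Coxeter group,
when multiplication by a simple reflection that keeps a root positive multiplies the size of a
piece by `q`: the order is `|DC 1|` times the product over a parabolic chain of the sums
`∑ q ^ (length of the coset representative)`.
-/

namespace Cfsg.Agent.Helper19.Poinc

open Cfsg.Agent.Helper19.Cox CoxeterSystem

/-- positivity of a root index: the positive roots are the indices `hlf ≤ x < d` -/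
def posB (hlf d x : ℕ) : Bool := decide (hlf ≤ x) && decide (x < d)

/-- membership in the `k`-th subsystem, from a list of bit masks -/
def inS (sub : List ℕ) (k x : ℕ) : Bool := (sub.getD k 0).testBit x

/-- the first `k` simple reflections map the positive roots outside the `k`-th subsystem to
positive roots outside it -/
def stableOK (R : List ℕ) (n d hlf : ℕ) (sub : List ℕ) (k : ℕ) : Bool :=
  (List.range k).all fun i => (List.range d).all fun x =>
    !(posB hlf d x) || inS sub k x ||
      (posB hlf d (tact R n d i x) && !(inS sub k (tact R n d i x)))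

/-- every letter of the word `r` is applied to a simple root whose image under the preceding
prefix is positive and outside the `k`-th subsystem -/
def repOK (R : List ℕ) (n d hlf : ℕ) (sub alphas : List ℕ) (k : ℕ) (r : List ℕ) : Bool :=
  (List.range r.length).all fun j =>
    decide (r.getD j 0 < n) && posB hlf d (actW R n d (r.take j) (alphas.getD (r.getD j 0) 0)) &&
      !(inS sub k (actW R n d (r.take j) (alphas.getD (r.getD j 0) 0)))

section Inv

variable {n : ℕ} (M : CoxeterMatrix (Fin n)) {R : List ℕ} {d : ℕ} (Mx : ℕ → ℕ → ℕ)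
  (hI : checkInvol R n d = true) (hB : checkBraid Mx R n d = true)
  (hMx : ∀ a b (ha : a < n) (hb : b < n), M ⟨a, ha⟩ ⟨b, hb⟩ = Mx a b)

theorem stable_of_mem {hlf : ℕ} {sub : List ℕ} {k : ℕ} (hst : stableOK R n d hlf sub k = true) :
    ∀ g ∈ Wsub M k, ∀ x, posB hlf d x = true → inS sub k x = false →
      posB hlf d (phi M Mx hI hB hMx g x) = true ∧ inS sub k (phi M Mx hI hB hMx g x) = false := by
  have hgen : ∀ i < k, ∀ x, posB hlf d x = true → inS sub k x = false →
      posB hlf d (tact R n d i x) = true ∧ inS sub k (tact R n d i x) = false := by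
    intro i hi x hx hsx
    unfold stableOK at hst
    rw [List.all_eq_true] at hst
    have h1 := hst i (List.mem_range.mpr hi)
    rw [List.all_eq_true] at h1
    have hxd : x < d := by
      unfold posB at hx
      simp only [Bool.and_eq_true, decide_eq_true_eq] at hx
      exact hx.2
    have h2 := h1 x (List.mem_range.mpr hxd)
    rw [hx, hsx] at h2
    simpa using h2
  intro g hg
  induction hg using Subgroup.closure_induction_right with
  | one =>
    intro x hx hsx
    rw [map_one, Equiv.Perm.one_apply]
    exact ⟨hx, hsx⟩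
  | mul_right y hy z hz ih =>
    obtain ⟨i, hi, rfl⟩ := hz
    intro x hx hsx
    rw [map_mul, Equiv.Perm.mul_apply, phi_sg]
    obtain ⟨h1, h2⟩ := hgen i hi x hx hsx
    exact ih _ h1 h2
  | mul_inv_cancel y hy z hz ih =>
    obtain ⟨i, hi, rfl⟩ := hz
    intro x hx hsx
    rw [sg_inv, map_mul, Equiv.Perm.mul_apply, phi_sg]
    obtain ⟨h1, h2⟩ := hgen i hi x hx hsx
    exact ih _ h1 h2

end Inv

section Count

variable {n : ℕ} (M : CoxeterMatrix (Fin n)) {R : List ℕ} {d : ℕ} (Mx : ℕ → ℕ → ℕ)
  (hI : checkInvol R n d = true) (hB : checkBraid Mx R n d = true)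
  (hMx : ∀ a b (ha : a < n) (hb : b < n), M ⟨a, ha⟩ ⟨b, hb⟩ = Mx a b)
  {α : Type*} (DC : M.Group → Set α) (q : ℕ) {hlf : ℕ} {alphas sub : List ℕ}
  (hstep : ∀ (w : M.Group) (i : ℕ), i < n →
    posB hlf d (phi M Mx hI hB hMx w (alphas.getD i 0)) = true →
      (DC (w * sg M i)).ncard = q * (DC w).ncard)

include hstep in
theorem ncard_mul_take {k : ℕ} (hst : stableOK R n d hlf sub k = true) {h : M.Group}
    (hh : h ∈ Wsub M k) (r : List ℕ) (hr : repOK R n d hlf sub alphas k r = true) :
    ∀ j ≤ r.length, (DC (h * gp M (r.take j))).ncard = q ^ j * (DC h).ncard := by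
  intro j
  induction j with
  | zero =>
    intro _
    rw [List.take_zero, gp_nil, mul_one, pow_zero, one_mul]
  | succ j ih =>
    intro hj
    have hjl : j < r.length := hj
    unfold repOK at hr
    rw [List.all_eq_true] at hr
    have h1 := hr j (List.mem_range.mpr hjl)
    simp only [Bool.and_eq_true, decide_eq_true_eq, Bool.not_eq_eq_eq_not, Bool.not_true] at h1
    obtain ⟨⟨hlt, hpos⟩, hns⟩ := h1
    have hget : r.getD j 0 = r[j] := by
      rw [List.getD_eq_getElem?_getD, List.getElem?_eq_getElem hjl]; rfl
    rw [hget] at hlt hpos hns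
    rw [List.take_succ_eq_append_getElem hjl, gp_append, gp_singleton, ← mul_assoc]
    have hgood : posB hlf d (phi M Mx hI hB hMx (h * gp M (r.take j)) (alphas.getD r[j] 0)) = true := by
      rw [map_mul, Equiv.Perm.mul_apply, phi_gp]
      exact (stable_of_mem M Mx hI hB hMx hst h hh _ hpos hns).1
    rw [hstep _ _ hlt hgood, ih (by omega), pow_succ]
    ring

include hstep in
theorem ncard_mul_gp {k : ℕ} (hst : stableOK R n d hlf sub k = true) {h : M.Group}
    (hh : h ∈ Wsub M k) (r : List ℕ) (hr : repOK R n d hlf sub alphas k r = true) :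
    (DC (h * gp M r)).ncard = q ^ r.length * (DC h).ncard := by
  have := ncard_mul_take M Mx hI hB hMx DC q hstep hst hh r hr r.length le_rfl
  rwa [List.take_length] at this

end Count

end Cfsg.Agent.Helper19.Poinc
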